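import Cfsg.Agent.Omega.IId.SwCv.NatM.Cases
import Cfsg.Agent.Omega.IId.CvBig.Line
import Cfsg.Agent.Omega.IId.CvBig.Bts

/-!
# II.d, SwCv, natural partner with any number of factors `k' ≥ 2`: the mixed case (helper639)

* `NV.QL_pt` : THEOREM C: `fac M i ≤ Z(O₂(C_G(z)))` for `1 ≠ z ∈ fac M j`, `j ≠ i`, `q = 2`;
* `MxB` : the mixed case, any `k'`; `MxB.nl` : nonlocality (helper963's LEMMA NL);
* `MxB.false_of` : `k' ≥ 2`, `OverT N i' T₁` (a Sylow 2-subgroup of `N_G(R)` normalises `V'_{i'}`): contradiction;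
* `casesB` : the three cases for any `k'`;
* `nat_big` : `k' > 2`, socket `Big2A2` of `CvBig/Cut.lean`: `(∃ g, Mutual S P P g)` or `UnM N i'`.
-/

set_option autoImplicit false
set_option linter.unusedSectionVars false

namespace Cfsg.Agent.Omega.IId.NV

open Subgroup Cfsg Cfsg.Agent.Lib.SL2Mat Cfsg.Agent.MinSimple
open Cfsg.Agent.ZN (o2 zc zl)
open Cfsg.Agent.Omega.MinPar Cfsg.Agent.Omega.FFThm
open Cfsg.Agent.Omega.IId.Cv.TwoA (mem_cs o2_conj o2_conj')
universe u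

variable {G : Type u} [Group G] [Finite G] {F : Type} [Field F] [Finite F] [CharP F 2] {S : Sylow 2 G}
  {P V D : Subgroup G} {k : ℕ} (M : NatD F S P V D k)

/-- THEOREM C, `q = 2` : `fac M i ≤ Z(O₂(C_G(z)))` for `1 ≠ z ∈ fac M j`, `j ≠ i`. -/
theorem QL_pt (hC : ∀ l, QL M l ≤ (S : Subgroup G)) (hF : Nat.card F = 2) {i j : Fin k} (hij : i ≠ j) {z : G}
    (hz : z ∈ fac M.toNatV j) (hz1 : z ≠ 1) :
    fac M.toNatV i ≤ o2 (centralizer ({z} : Set G)) ∧
      o2 (centralizer ({z} : Set G)) ≤ centralizer (fac M.toNatV i : Set G) := by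
  obtain ⟨a, haf, hea⟩ := exists_fac M.toNatV j ![1, 0]
  have ha : a ∈ line M.toNatV j := (mem_line _).2 ⟨haf, by rw [hea]; rfl⟩
  have ha1 : a ≠ 1 := by
    rintro rfl
    have h1 := e_one M.toNatV
    rw [h1] at hea
    have := congrFun hea 0
    simp at this
  have hN := normalizer_line_two M hF ha ha1
  have h1 : fac M.toNatV i ≤ o2 (centralizer ({a} : Set G)) := by
    rw [← hN]; exact fac_le_QL_of_ne M hC hij
  have h2 : o2 (centralizer ({a} : Set G)) ≤ centralizer (fac M.toNatV i : Set G) := by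
    rw [← hN]; exact QL_le_cent M hC hij
  obtain ⟨g, hg, hge⟩ := exists_grp M.toNatV haf hz ha1 hz1
  have hd : Disjoint ({i} : Set (Fin k)) {j} := by simpa using hij
  have hgc : ∀ v ∈ fac M.toNatV i, g * v = v * g := fun v hv => grp_comm M.toNatV hd.symm hg hv
  subst hge
  constructor
  · intro v hv
    have h3 := o2_conj g (h1 hv)
    rwa [hgc v hv, mul_inv_cancel_right] at h3
  · intro y hy
    have h3 := h2 (o2_conj' g hy)
    rw [mem_centralizer_iff] at h3 ⊢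
    intro v hv
    have h4 := h3 v hv
    have h5 := hgc v hv
    calc v * y = g * v * g⁻¹ * y := by rw [h5, mul_inv_cancel_right]
      _ = g * (v * (g⁻¹ * y * g)) * g⁻¹ := by group
      _ = g * (g⁻¹ * y * g * v) * g⁻¹ := by rw [h4]
      _ = y * (g * v * g⁻¹) := by group
      _ = y * v := by rw [h5, mul_inv_cancel_right]

end Cfsg.Agent.Omega.IId.NV

namespace Cfsg.Agent.Omega.IId.SwCv.NatM

open Subgroup Cfsg Cfsg.Agent.Lib.SL2Mat Cfsg.Agent.MinSimple
open Cfsg.Agent.ZN (o2 zc zl)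
open Cfsg.Agent.Omega.MinPar Cfsg.Agent.Omega.FFThm Cfsg.Agent.Omega.FrameMulti
open Cfsg.Agent.Omega.FrameFF (cv Free)
open Cfsg.Agent.Omega.HOne.Main (vx SplitPar)
open Cfsg.Agent.Omega.BTwo (cj mem_cj conj_mem_cj cj_mono cj_eq_self_iff mem_normalizer_of_conj)
open Cfsg.Agent.Omega.Mix (LL LL_le V_le_LL cj_le_LL Char2 YY mem_YY ST)
open Cfsg.Agent.Omega.MixOne (SideW)
open Cfsg.Agent.Omega.Frame (Cls)
open Cfsg.Agent.Omega.IId.Cv (UnM OverT Mv Big2A2 HypN)
open Lb (SwA)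
open scoped commutatorElement

universe u

section mxb

variable {G : Type u} [Group G] [Finite G] {S S' : Sylow 2 G} {P P' : Subgroup G} {D V' D' : Subgroup G} {k m : ℕ}
  {M : SymK (S : Subgroup G) P (zl (S : Subgroup G) P) D k m} {ε : Fin k → (Fin (2 ^ m + 1) → ZMod 2) → G}
  {F' : Type} [Field F'] [Finite F'] [CharP F' 2] {k' : ℕ} {N : NatD F' S' P' V' D' k'} {i : Fin k}
  {a b : Fin (2 ^ m + 1)} {i' : Fin k'}

/-- the mixed case, any number of natural factors -/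
structure MxB (S S' : Sylow 2 G) (P P' : Subgroup G) {D V' D' : Subgroup G}
    (M : SymK (S : Subgroup G) P (zl (S : Subgroup G) P) D k m) (ε : Fin k → (Fin (2 ^ m + 1) → ZMod 2) → G)
    (N : NatD F' S' P' V' D' k') (i : Fin k) (a b : Fin (2 ^ m + 1)) (i' : Fin k') : Prop
    extends TN S S' P P' M ε N i a b i' where
  lb : Lb M ε
  one : FOne M ε
  qc : ∀ l, NV.QL N l ≤ (S' : Subgroup G)
  comm' : ∀ g ∈ centralizer ({du ε i a b} : Set G), ∀ v ∈ NV.fac N.toNatV i', ∀ w ∈ NV.fac N.toNatV i',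
    v * (g * w * g⁻¹) = g * w * g⁻¹ * v
  commV : ∀ g ∈ centralizer ({du ε i a b} : Set G), ∀ v ∈ zl (S : Subgroup G) P, ∀ w ∈ zl (S : Subgroup G) P,
    v * (g * w * g⁻¹) = g * w * g⁻¹ * v

namespace MxB

variable (t : MxB S S' P P' M ε N i a b i')
include t

theorem n_ne : du ε i a b ≠ 1 := t.lb.du_ne_one t.ne

theorem n_line : du ε i a b ∈ NV.line N.toNatV i' := (t.mem_line _).2 (Or.inr rfl)

theorem n_fac : du ε i a b ∈ NV.fac N.toNatV i' := NV.line_le _ _ t.n_line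

theorem line_eq : NV.line N.toNatV i' = zpowers (du ε i a b) := by
  ext z
  rw [t.mem_line, mem_zpowers_iff]
  constructor
  · rintro (rfl | rfl)
    · exact ⟨0, zpow_zero _⟩
    · exact ⟨1, zpow_one _⟩
  · rintro ⟨n, rfl⟩
    exact Cv.TwoA.zpow_cases (t.lb.du_mul_self i a b) (zpow_mem (mem_zpowers _) n)

theorem norm_eq : normalizer (zpowers (du ε i a b) : Set G) = centralizer ({du ε i a b} : Set G) := by
  rw [← t.line_eq]
  exact t.toTN.normalizer_line t.lb

theorem QL_eq : NV.QL N i' = o2 (normalizer (zpowers (du ε i a b) : Set G)) := by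
  rw [← t.line_eq]
  rfl

theorem fac_le_zl : NV.fac N.toNatV i' ≤ zl (S' : Subgroup G) P' := (NV.fac_le _ _).trans N.V_le

theorem fac_o2 : NV.fac N.toNatV i' ≤ o2 (normalizer (zpowers (du ε i a b) : Set G)) := by
  rw [← t.QL_eq]
  exact NV.fac_le_QL_self N t.qc i'

theorem V_KX : zl (S : Subgroup G) P ≤ NV.KX (zpowers (du ε i a b)) := by
  intro v hv
  refine NV.mem_KX.2 ⟨fun y hy => ?_, fun q hq => ?_⟩
  · obtain ⟨n, rfl⟩ := mem_zpowers_iff.1 hy
    exact (Commute.zpow_right (t.lb.comm v hv _ (t.lb.du_mem i a b)) n)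
  · rw [t.norm_eq] at hq
    have h1 := t.one.comm i a b t.ne q hq v hv
    have e : v * q * v⁻¹ * q⁻¹ = (⁅q, v⁆)⁻¹ := by rw [commutatorElement_def]; group
    rw [e]
    refine inv_mem ?_
    rcases h1 with h1 | h1
    · rw [h1]; exact one_mem _
    · rw [h1]; exact mem_zpowers _

theorem V_o2 : zl (S : Subgroup G) P ≤ o2 (normalizer (zpowers (du ε i a b) : Set G)) := by
  rw [t.norm_eq]
  exact t.one.le i a b t.ne

/-- `⟨W^H⟩ ≤ O₂(H)` -/
theorem LLW_o2 : LL (NV.fac N.toNatV i') (zpowers (du ε i a b)) (zpowers (du ε i a b)) ≤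
    o2 (normalizer (zpowers (du ε i a b) : Set G)) := by
  refine LL_le fun g hg => ?_
  rintro _ ⟨v, hv, rfl⟩
  exact (mem_normalizer_iff.1 (VModule.le_normalizer_o2 _ (cj_eq_self_iff.1 hg)) v).1 (t.fac_o2 hv)

theorem LLV_o2 : LL (zl (S : Subgroup G) P) (zpowers (du ε i a b)) (zpowers (du ε i a b)) ≤
    o2 (normalizer (zpowers (du ε i a b) : Set G)) := by
  refine LL_le fun g hg => ?_
  rintro _ ⟨v, hv, rfl⟩
  exact (mem_normalizer_iff.1 (VModule.le_normalizer_o2 _ (cj_eq_self_iff.1 hg)) v).1 (t.V_o2 hv)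

theorem LLV_KX : LL (zl (S : Subgroup G) P) (zpowers (du ε i a b)) (zpowers (du ε i a b)) ≤
    NV.KX (zpowers (du ε i a b)) := by
  refine LL_le fun g hg => ?_
  rintro _ ⟨v, hv, rfl⟩
  exact (mem_normalizer_iff.1 (NV.normalizer_le_normalizer_KX _ (cj_eq_self_iff.1 hg)) v).1 (t.V_KX hv)

theorem LLW_comm : ∀ x ∈ LL (NV.fac N.toNatV i') (zpowers (du ε i a b)) (zpowers (du ε i a b)),
    ∀ y ∈ LL (NV.fac N.toNatV i') (zpowers (du ε i a b)) (zpowers (du ε i a b)), x * y = y * x :=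
  M4.LL_comm fun g hg => t.comm' g (t.norm_eq ▸ hg)

theorem LLV_comm : ∀ x ∈ LL (zl (S : Subgroup G) P) (zpowers (du ε i a b)) (zpowers (du ε i a b)),
    ∀ y ∈ LL (zl (S : Subgroup G) P) (zpowers (du ε i a b)) (zpowers (du ε i a b)), x * y = y * x :=
  M4.LL_comm fun g hg => t.commV g (t.norm_eq ▸ hg)

/-- `w ∈ W` outside the line exchanges `{a,c}` and `{b,c}` -/
theorem move {w : G} (hw : w ∈ NV.fac N.toNatV i') (hw1 : N.e w i' 1 ≠ 0) {c : Fin (2 ^ m + 1)} (hca : c ≠ a)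
    (hcb : c ≠ b) : w * du ε i a c * w⁻¹ = du ε i b c := by
  have hwP : w ∈ P := (t.pair.le.trans t.pair.star.le) (t.fac_le_zl hw)
  have h1 := t.lb.conj_du hwP (t.sw w hw hw1) i a c
  rw [Function.update_self, Equiv.swap_apply_left, Equiv.swap_apply_of_ne_of_ne hca hcb] at h1
  exact h1

theorem ne_comm {w : G} (hw : w ∈ NV.fac N.toNatV i') (hw1 : N.e w i' 1 ≠ 0) {c : Fin (2 ^ m + 1)} (hca : c ≠ a)
    (hcb : c ≠ b) : w * du ε i a c ≠ du ε i a c * w := by
  intro h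
  have h1 := t.move hw hw1 hca hcb
  rw [h, mul_inv_cancel_right, Lb.du_comm i a c, Lb.du_comm i b c] at h1
  exact du_injL t.lb t.ne h1

/-- **The side of `l`.** -/
theorem lnD_l {c : Fin (2 ^ m + 1)} (hca : c ≠ a) (hcb : c ≠ b) :
    ∃ g, LnD (lin t.lb i a b c) (NV.fac N.toNatV i') (zl (S : Subgroup G) P) (rl ε i a b c) g := by
  obtain ⟨g, hg⟩ := exists_fourL t.lb (i := i) t.ne hca.symm hcb.symm
  obtain ⟨w, hw, hw1⟩ : ∃ w ∈ NV.fac N.toNatV i', N.e w i' 1 ≠ 0 := by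
    obtain ⟨w, hw, he⟩ := NV.exists_fac N.toNatV i' ![0, 1]
    exact ⟨w, hw, by rw [he]; exact one_ne_zero⟩
  exact ⟨g, { toFourL := hg
              V_Z := lin_le t.lb i a b c
              r_U := t.n_fac
              U_comm := t.LLW_comm
              Z_comm := t.LLV_comm
              U_sq := fun x hx => NV.sq N.toNatV hx.1
              Z_sq := fun x hx => t.lb.mul_self hx
              ZU := fun x hx y hy => (NV.mem_KX.1 (t.LLV_KX hx)).2 y (t.LLW_o2 hy)
              mv := ⟨w, V_le_LL _ _ hw, _, (mem_lin t.lb).2 (Or.inr (Or.inr (Or.inl rfl))),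
                t.ne_comm hw hw1 hca hcb⟩ }⟩

/-- **The side of `W`.** -/
theorem lnD_W : ∃ e ∈ NV.fac N.toNatV i', N.e e i' 1 ≠ 0 ∧ ∃ g, LnD (NV.fac N.toNatV i') (zl (S : Subgroup G) P)
    (NV.fac N.toNatV i') ![du ε i a b, e, du ε i a b * e] g := by
  obtain ⟨e, he, he1, g, hg⟩ := exists_fourN N t.cardF i' t.n_line t.n_ne
  obtain ⟨c, hca, hcb⟩ := Half.SymA.exists_third t.lb.hm a b
  refine ⟨e, he, he1, g, { toFourL := hg
                           V_Z := le_rfl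
                           r_U := t.lb.du_mem i a b
                           U_comm := t.LLV_comm
                           Z_comm := t.LLW_comm
                           U_sq := fun x hx => t.lb.mul_self hx
                           Z_sq := fun x hx => NV.sq N.toNatV hx.1
                           ZU := fun x hx y hy => ?_
                           mv := ⟨_, V_le_LL _ _ (t.lb.du_mem i a c), e, he, fun h => t.ne_comm he he1 hca hcb h.symm⟩ }⟩
  have h1 := inv_mem ((NV.mem_KX.1 (t.LLV_KX hy)).2 x (t.LLW_o2 hx))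
  have e1 : (y * x * y⁻¹ * x⁻¹)⁻¹ = x * y * x⁻¹ * y⁻¹ := by group
  rwa [e1] at h1

/-- the data of LEMMA NL at the line of duads -/
theorem cor_l {c : Fin (2 ^ m + 1)} (hca : c ≠ a) (hcb : c ≠ b) : NLFree.Cor (zpowers (du ε i a b))
    (lin t.lb i a b c) (normalizer (zpowers (du ε i a b) : Set G)) (normalizer (lin t.lb i a b c : Set G)) where
  RA := by
    rw [zpowers_le]
    exact (mem_lin t.lb).2 (Or.inr (Or.inl rfl))
  R1 := fun h0 => t.n_ne (zpowers_eq_bot.1 h0)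
  pA := S.isPGroup'.to_le ((lin_le t.lb i a b c).trans t.lb.VT)
  cH := centralizer_le_normalizer _
  HR := le_rfl
  AQ := (lin_le t.lb i a b c).trans t.V_o2
  com := fun v hv x hx => (NV.mem_KX.1 (t.V_KX (lin_le t.lb i a b c hv))).2 x hx
  DA := le_rfl
  irr := by
    intro X hX hne
    obtain ⟨g, d⟩ := t.lnD_l hca hcb
    obtain ⟨x, hx, hx1⟩ := (Subgroup.bot_or_exists_ne_one _).resolve_left hne
    obtain ⟨hxl, hxX⟩ := mem_inf.1 hx
    have hcj : ∀ y ∈ normalizer (lin t.lb i a b c : Set G), ∀ z ∈ X, y * z * y⁻¹ ∈ X := fun y hy z hz =>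
      (mem_normalizer_iff.1 (hX hy) z).1 hz
    have h0 : rl ε i a b c 0 ∈ X := by
      rcases (d.mem x).1 hxl with h1 | ⟨j, rfl⟩
      · exact absurd h1 hx1
      · have h1 := hcj _ (inv_mem (d.norm j)) _ hxX
        rw [← d.act j] at h1
        have e : (g j)⁻¹ * (g j * rl ε i a b c 0 * (g j)⁻¹) * (g j)⁻¹⁻¹ = rl ε i a b c 0 := by group
        rwa [e] at h1
    intro y hy
    rcases (d.mem y).1 hy with rfl | ⟨j, rfl⟩
    · exact one_mem _
    · rw [← d.act j]
      exact hcj _ (d.norm j) _ h0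

/-- the data of LEMMA NL at `W` -/
theorem cor_W : NLFree.Cor (zpowers (du ε i a b)) (NV.fac N.toNatV i')
    (normalizer (zpowers (du ε i a b) : Set G)) (normalizer (NV.fac N.toNatV i' : Set G)) := by
  have h := NV.cor_big N t.qc i'
  rwa [t.line_eq] at h

/-- (NL) -/
theorem nl {c : Fin (2 ^ m + 1)} (hca : c ≠ a) (hcb : c ≠ b) {K : Subgroup G} (hK : IsPGroup 2 K)
    (h0 : normalizer (zpowers (du ε i a b) : Set G) ≤ normalizer (K : Set G))
    (h1 : normalizer (lin t.lb i a b c : Set G) ≤ normalizer (K : Set G))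
    (h2 : normalizer (NV.fac N.toNatV i' : Set G) ≤ normalizer (K : Set G)) : K = ⊥ := by
  refine NLFree.nonLoc_mixed N.hG (t.cor_l hca hcb) t.cor_W ?_ hK h0 h1 h2
  rw [zpowers_le]
  obtain ⟨w, hw, he⟩ := NV.exists_fac N.toNatV i' ![0, 1]
  have hw1 : N.e w i' 1 ≠ 0 := by rw [he]; exact one_ne_zero
  refine subset_closure ⟨du ε i a c, (mem_lin t.lb).2 (Or.inr (Or.inr (Or.inl rfl))), w, hw, ?_⟩
  -- `{a,c} w {a,c} w⁻¹ = {a,c} {b,c} = {a,b}`
  have e1 : (du ε i a c)⁻¹ = du ε i a c := inv_eq_of_mul_eq_one_left (t.lb.du_mul_self i a c)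
  rw [e1]
  have e2 : du ε i a c * w * du ε i a c * w⁻¹ = du ε i a c * (w * du ε i a c * w⁻¹) := by group
  rw [e2, t.move hw hw1 hca hcb, Lb.du_comm i a c, Lb.du_comm i b c, du_mul' t.lb i c a b]

/-- **The one-sided MIX.** -/
theorem oneT {c : Fin (2 ^ m + 1)} (hca : c ≠ a) (hcb : c ≠ b) {e : G} {g : Fin 3 → G}
    (hW : LnD (NV.fac N.toNatV i') (zl (S : Subgroup G) P) (NV.fac N.toNatV i') ![du ε i a b, e, du ε i a b * e] g)
    {T : Subgroup G} (hT : T ≤ normalizer (NV.fac N.toNatV i' : Set G))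
    (hTn : T ≤ centralizer ({du ε i a b} : Set G))
    (ho : ¬ 2 ∣ T.relIndex (centralizer ({du ε i a b} : Set G))) :
    OneT (lin t.lb i a b c) (NV.fac N.toNatV i') (pts (rl ε i a b c))
      (fun j => LL (NV.fac N.toNatV i') (zpowers (du ε i a b)) (pts (rl ε i a b c) j))
      (fun j => LL (zl (S : Subgroup G) P) (zpowers (du ε i a b)) (pts (rl ε i a b c) j))
      (pts ![du ε i a b, e, du ε i a b * e])
      (fun j => LL (zl (S : Subgroup G) P) (zpowers (du ε i a b)) (pts ![du ε i a b, e, du ε i a b * e] j))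
      (fun j => LL (NV.fac N.toNatV i') (zpowers (du ε i a b)) (pts ![du ε i a b, e, du ε i a b * e] j)) 0 0 T := by
  obtain ⟨g', d⟩ := t.lnD_l hca hcb
  have hR : pts (rl ε i a b c) 0 = zpowers (du ε i a b) := rfl
  have hn2 : IsPGroup 2 (zpowers (du ε i a b)) := by
    refine S.isPGroup'.to_le ?_
    rw [zpowers_le]
    exact t.lb.VT (t.lb.du_mem i a b)
  exact
  { s₁ := d.side
    s₂ := hW.side
    hR := rfl
    hB := rfl
    hC := rfl
    ch := Mix.char2_normalizer N.hG hn2 (by rw [hR, Ne, zpowers_eq_bot]; exact t.n_ne)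
    NL := fun K hK h1 h2 h3 => t.nl hca hcb hK h3 (d.toFourL.le_ST.trans h1) (hW.toFourL.le_ST.trans h2)
    SV₂ := hT.trans hW.toFourL.le_ST
    SR := by
      rw [hR, t.norm_eq]
      exact hTn
    odd := by
      rw [hR, t.norm_eq]
      exact ho
    gen₂ := fun K hK => LL_le fun h hh => hK h (cj_eq_self_iff.1 hh) }

/-- `V_P` moves `W` : the hypothesis of the 2a-kill -/
theorem mv : Mv N i' := by
  obtain ⟨c, hca, hcb⟩ := Half.SymA.exists_third t.lb.hm a b
  obtain ⟨w, hw, he⟩ := NV.exists_fac N.toNatV i' ![0, 1]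
  have hne := t.ne_comm hw (by rw [he]; exact one_ne_zero) hca hcb
  refine ⟨du ε i a c, ?_, w, hw, hne.symm⟩
  rw [t.line_eq]
  exact t.V_KX (t.lb.du_mem i a c)

/-- **`k' ≥ 2`, mixed, a Sylow 2-subgroup of `N_G(R)` normalises `W`: impossible.** -/
theorem false_of (hk' : 2 ≤ k') {T₁ : Subgroup G} (hT₁ : OverT N i' T₁) : False := by
  obtain ⟨c, hca, hcb⟩ := Half.SymA.exists_third t.lb.hm a b
  have hN := t.toTN.normalizer_line t.lb
  obtain ⟨e, he, he1, g, hW⟩ := t.lnD_W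
  have o := t.oneT hca hcb hW hT₁.fac (hN ▸ hT₁.line) (hN ▸ hT₁.syl)
  obtain ⟨j', hj'⟩ : ∃ j' : Fin k', j' ≠ i' := by
    have : Nontrivial (Fin k') := Fin.nontrivial_iff_two_le.2 hk'
    exact exists_ne i'
  -- `W₂ ≤ C_G(A L)`
  have hQ := NV.QL_le_cent N t.qc hj'
  rw [t.QL_eq] at hQ
  have hY : ∀ z ∈ NV.fac N.toNatV j', z ∈ YY (LL (NV.fac N.toNatV i') (zpowers (du ε i a b)) (zpowers (du ε i a b)))
      (LL (zl (S : Subgroup G) P) (zpowers (du ε i a b)) (zpowers (du ε i a b))) := by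
    intro z hz
    rw [mem_YY]
    exact ⟨fun x hx => mem_centralizer_iff.1 (hQ (t.LLW_o2 hx)) z hz,
      fun x hx => mem_centralizer_iff.1 (hQ (t.LLV_o2 hx)) z hz⟩
  -- (P')
  have hP : ∀ z ∈ NV.fac N.toNatV j', z ≠ 1 →
      z ∉ ⨅ p, YY (LL (NV.fac N.toNatV i') (zpowers (du ε i a b)) (pts (rl ε i a b c) p))
        (LL (zl (S : Subgroup G) P) (zpowers (du ε i a b)) (pts (rl ε i a b c) p)) := by
    intro z hz hz1 hd
    obtain ⟨h1, h2⟩ := NV.QL_pt N t.qc t.cardF hj'.symm hz hz1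
    obtain ⟨x, hx, hxe⟩ := o.s₁.trans 2 0 1 (by decide) (by decide)
    have hxz : x ∈ centralizer ({z} : Set G) := by
      rw [mem_centralizer_singleton_iff]
      exact (SideW.D_comm hd 2 x hx).symm
    obtain ⟨g', d⟩ := t.lnD_l hca hcb
    have h3 : x * rl ε i a b c 0 * x⁻¹ = rl ε i a b c 1 := d.toFourL.conj_of_cj hxe
    have h4 : rl ε i a b c 1 ∈ o2 (centralizer ({z} : Set G)) := by
      rw [← h3]
      exact (mem_normalizer_iff.1 (VModule.le_normalizer_o2 _ hxz) _).1 (h1 t.n_fac)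
    exact t.ne_comm he he1 hca hcb (mem_centralizer_iff.1 (h2 h4) e he)
  -- the end
  have key : ∀ z ∈ NV.fac N.toNatV j', z ≠ 1 → ∃ d ∈ ⨅ p, YY (LL (NV.fac N.toNatV i') (zpowers (du ε i a b))
      (pts (rl ε i a b c) p)) (LL (zl (S : Subgroup G) P) (zpowers (du ε i a b)) (pts (rl ε i a b c) p)),
      z = du ε i a b * d := by
    intro z hz hz1
    obtain ⟨r, hr, d, hd, h⟩ := o.exists_RD (hY z hz)
    have hr' : r ∈ zpowers (du ε i a b) := hr
    rcases Cv.TwoA.zpow_cases (t.lb.du_mul_self i a b) hr' with h1 | h1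
    · exfalso
      rw [h1, one_mul] at h
      exact hP z hz hz1 (h ▸ hd)
    · exact ⟨d, hd, by rw [h, h1]⟩
  -- the elements `u`, `v`, `u v` of `W₂`
  obtain ⟨u, huf, heu⟩ := NV.exists_fac N.toNatV j' ![1, 0]
  have hul : u ∈ NV.line N.toNatV j' := (NV.mem_line _).2 ⟨huf, by rw [heu]; rfl⟩
  have hu1 : u ≠ 1 := by
    rintro rfl
    have h1 := NV.e_one N.toNatV
    rw [h1] at heu
    have := congrFun heu 0
    simp at this
  obtain ⟨v, hvf, -, g₂, h₂⟩ := exists_fourN N t.cardF j' hul hu1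
  have hv1 : v ≠ 1 := h₂.ne 1
  have huv1 : u * v ≠ 1 := h₂.ne 2
  obtain ⟨d₁, hd₁, e₁⟩ := key u huf hu1
  obtain ⟨d₂, hd₂, e₂⟩ := key v hvf hv1
  refine hP (u * v) (mul_mem huf hvf) huv1 ?_
  have hc : d₁ * du ε i a b = du ε i a b * d₁ := SideW.D_comm hd₁ 0 _ (V_le_LL _ _ t.n_fac)
  have e3 : u * v = d₁ * d₂ := by
    rw [e₁, e₂]
    calc du ε i a b * d₁ * (du ε i a b * d₂) = du ε i a b * (d₁ * du ε i a b) * d₂ := by group
      _ = du ε i a b * du ε i a b * (d₁ * d₂) := by rw [hc]; group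
      _ = d₁ * d₂ := by rw [t.lb.du_mul_self, one_mul]
  rw [e3]
  exact mul_mem hd₁ hd₂

end MxB

/-- **The three cases**, any `k'`. -/
theorem casesB (t : TN S S' P P' M ε N i a b i') (h : Lb M ε) (hF : FOne M ε)
    (hC : ∀ l, NV.QL N l ≤ (S' : Subgroup G)) :
    UnM N i' ∨ (∃ g ∈ centralizer ({du ε i a b} : Set G), Mutual (S : Subgroup G) P P g) ∨
      MxB S S' P P' M ε N i a b i' := by
  by_cases hu : UnM N i'
  · exact Or.inl hu
  by_cases hc : ∀ g ∈ centralizer ({du ε i a b} : Set G), ∀ v ∈ zl (S : Subgroup G) P, ∀ w ∈ zl (S : Subgroup G) P,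
    v * (g * w * g⁻¹) = g * w * g⁻¹ * v
  · right; right
    exact { toTN := t
            lb := h
            one := hF
            qc := hC
            comm' := fun g hg v hv w hw => NV.comm_of_not_unM hu g (by rwa [t.normalizer_line h]) v hv w hw
            commV := hc }
  · right; left
    push Not at hc
    obtain ⟨g, hg, v, hv, w, hw, hne⟩ := hc
    exact ⟨g, hg, mutual_of t.pair.star h hF t.ne hg hv hw hne⟩

end mxb

section main

variable {G : Type u} [Group G] [Finite G] {S S' : Sylow 2 G} {P P' : Subgroup G} {k m k' : ℕ}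

/-- **The data for a pair of types T, natural, any `k'`.** -/
theorem exists_natB (hc : IsCharacteristicTwoType G) (hp : Pair S S' P P')
    (hT : NoOver (zl (S : Subgroup G) P) P) (hT' : NoOver (zl (S' : Subgroup G) P') P') (hk : 0 < k) (hm : 2 ≤ m)
    (hS : IsSym (S : Subgroup G) P k m) (hk' : 0 < k') (hN : IsNat (S' : Subgroup G) P' k')
    (hf : ¬ (Free (S : Subgroup G) P ∧ Free (S' : Subgroup G) P')) :
    ∃ (F' : Type) (_ : Field F') (_ : Finite F') (_ : CharP F' 2)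
      (M : SymK (S : Subgroup G) P (zl (S : Subgroup G) P) (cv (S : Subgroup G) P) k m)
      (ε : Fin k → (Fin (2 ^ m + 1) → ZMod 2) → G) (N : NatD F' S' P' (vx (S' : Subgroup G) P') (cv (S' : Subgroup G) P') k')
      (i : Fin k) (a b : Fin (2 ^ m + 1)) (i' : Fin k'), Lb M ε ∧ FOne M ε ∧ cv (S' : Subgroup G) P' ≠ ⊥ ∧
        (∀ l, NV.QL N l ≤ (S' : Subgroup G)) ∧ TN S S' P P' M ε N i a b i' ∧
        (UnM N i' ∨ (∃ g ∈ centralizer ({du ε i a b} : Set G), Mutual (S : Subgroup G) P P g) ∨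
          MxB S S' P P' M ε N i a b i') := by
  obtain ⟨M⟩ := hS
  obtain ⟨F', i1, i2, i3, ⟨M'⟩⟩ := hN
  obtain ⟨ε, hL⟩ := exists_lb hc S hp.star hk (by omega) M
  have hF := SymWrD.fOne_all hc hp.star hL hk hm
  obtain ⟨N, -, i, a, b, i', t⟩ := exists_tn hc hp hT hT' hL hF M' hk'
  have hC := CvBig.hC_all N
  refine ⟨F', i1, i2, i3, M, ε, N, i, a, b, i', hL, hF, ?_, hC, t, casesB t hL hF hC⟩
  have h4 : 4 ≤ Nat.card (zc (S' : Subgroup G)) := by
    by_cases hD' : cv (S' : Subgroup G) P' = ⊥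
    · have hD : cv (S : Subgroup G) P ≠ ⊥ := fun h0 => hf ⟨h0, hD'⟩
      have h1 : Nat.card (zc (S' : Subgroup G)) = Nat.card (zc (S : Subgroup G)) :=
        Half.card_zc_of_card_eq S S'.isPGroup' (by rw [S.card_eq_multiplicity, S'.card_eq_multiplicity])
      rw [h1]
      exact four_le_zc hL i hD
    · exact NV.four_le_zc N i' hD'
  exact NV.D_ne_bot N i' t.cardF h4

/-- **`k' > 2`.** -/
theorem nat_big {K : Cls.{u}} (hA : Big2A2 K) (hH : HypN K S) (hc : IsCharacteristicTwoType G)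
    (hp : Pair S S' P P') (hT : NoOver (zl (S : Subgroup G) P) P) (hT' : NoOver (zl (S' : Subgroup G) P') P')
    (hk : 0 < k) (hm : 2 ≤ m) (hS : IsSym (S : Subgroup G) P k m) (hk' : 2 < k')
    (hN : IsNat (S' : Subgroup G) P' k')
    (hf : ¬ (Free (S : Subgroup G) P ∧ Free (S' : Subgroup G) P')) :
    (∃ g, Mutual (S : Subgroup G) P P g) ∨
    ∃ (F' : Type) (_ : Field F') (_ : Finite F') (_ : CharP F' 2)
      (N : NatD F' S' P' (vx (S' : Subgroup G) P') (cv (S' : Subgroup G) P') k') (i' : Fin k'), Nat.card F' = 2 ∧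
        cv (S' : Subgroup G) P' ≠ ⊥ ∧ (∀ l, NV.QL N l ≤ (S' : Subgroup G)) ∧ UnM N i' := by
  obtain ⟨F', i1, i2, i3, M, ε, N, i, a, b, i', hL, hF, hD', hC, t, h | ⟨g, -, h⟩ | h⟩ :=
    exists_natB hc hp hT hT' hk hm hS (by omega) hN hf
  · exact Or.inr ⟨F', i1, i2, i3, N, i', t.cardF, hD', hC, h⟩
  · exact Or.inl ⟨g, h⟩
  · obtain ⟨T₁, hT₁⟩ := hA G S' (hH.conj S') P' F' _ _ k' N hk' hC hD' i' h.mv t.cardF
    exact (h.false_of (by omega) hT₁).elim

end main

end Cfsg.Agent.Omega.IId.SwCv.NatM
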