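import Cfsg.Agent.Omega.IId.SwCv.NatM.Two

/-!
# II.d, SwCv, natural partner with one or two factors: the three cases (helper639)

* `four_le_zc` : `D ≠ 1` implies `4 ≤ |Ω₁(Z(S))|` for a member with even-subset modules;
* `TN.cases` : `W` is unmixed, or `(V_P, V_P^g)` is a mutual pair for some `g ∈ C_G(n)`, or `Mxd`;
* `exists_nat` : the data for a pair of types T, natural (`k' = 1, 2`), `D ≠ 1` or `D' ≠ 1`: `|F'| = 2`, `D' ≠ 1` and the
  three cases;
* `nat_two` : `k' = 2`: unmixed or `Mutual S P P g`.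
-/

set_option autoImplicit false
set_option linter.unusedSectionVars false

namespace Cfsg.Agent.Omega.IId.SwCv.NatM

open Subgroup Cfsg Cfsg.Agent.Lib.SL2Mat Cfsg.Agent.MinSimple
open Cfsg.Agent.ZN (o2 zc zl)
open Cfsg.Agent.Omega.MinPar Cfsg.Agent.Omega.FFThm Cfsg.Agent.Omega.FrameMulti
open Cfsg.Agent.Omega.FrameFF (cv Free)
open Cfsg.Agent.Omega.HOne.Main (vx SplitPar)
open Cfsg.Agent.Omega.IId.Cv (UnM)
open scoped commutatorElement

universe u

section zcard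

variable {G : Type u} [Group G] [Finite G] {S : Sylow 2 G} {P D : Subgroup G} {k m : ℕ}
  {M : SymK (S : Subgroup G) P (zl (S : Subgroup G) P) D k m} {ε : Fin k → (Fin (2 ^ m + 1) → ZMod 2) → G}

/-- `D ≠ 1` implies `4 ≤ |Ω₁(Z(S))|`. -/
theorem four_le_zc (h : Lb M ε) (i : Fin k) (hD : D ≠ ⊥) : 4 ≤ Nat.card (zc (S : Subgroup G)) := by
  obtain ⟨a, b, hab⟩ : ∃ a b : Fin (2 ^ m + 1), a ≠ b := by
    obtain ⟨b, hb, -⟩ := Half.SymA.exists_third h.hm (0 : Fin (2 ^ m + 1)) 0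
    exact ⟨0, b, hb.symm⟩
  have hA2 : IsPGroup 2 h.A := S.isPGroup'.to_le (h.A_le.trans h.VT)
  have hA1 : h.A ≠ ⊥ := by
    intro h0
    have h1 := h.du_mem_A i a b
    rw [h0, mem_bot] at h1
    exact h.du_ne_one hab h1
  obtain ⟨z, hz, hz1, hzc⟩ := Half.exists_fixed hA2 hA1 S.isPGroup' (h.TH.trans h.nor_A)
  have hzz : z ∈ h.A ⊓ zc (S : Subgroup G) := by
    refine ⟨hz, VModule.mem_zc.2 ⟨h.VT (h.A_le hz), fun s hs => ?_, h.sq z (h.A_le hz)⟩⟩
    exact mul_inv_eq_iff_eq_mul.1 (hzc s hs)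
  have hDz : D ≤ zc (S : Subgroup G) := fun d hd =>
    VModule.mem_zc.2 ⟨h.VT (h.DV hd), fun s hs => h.cen s (h.TH hs) d hd, h.sq d (h.DV hd)⟩
  have h1 : 1 < Nat.card (h.A ⊓ zc (S : Subgroup G) : Subgroup G) :=
    (Subgroup.one_lt_card_iff_ne_bot _).2 fun h0 => hz1 (by rw [h0] at hzz; exact mem_bot.1 hzz)
  have h2 : 1 < Nat.card D := (Subgroup.one_lt_card_iff_ne_bot _).2 hD
  have h3 : Nat.card ((h.A ⊓ zc (S : Subgroup G) : Subgroup G) × D) ≤ Nat.card (zc (S : Subgroup G)) := by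
    refine Nat.card_le_card_of_injective (fun p => (⟨(p.1 : G) * p.2, mul_mem p.1.2.2 (hDz p.2.2)⟩ :
      zc (S : Subgroup G))) ?_
    rintro ⟨⟨p, hp⟩, ⟨q, hq⟩⟩ ⟨⟨p', hp'⟩, ⟨q', hq'⟩⟩ heq
    have h4 : p * q = p' * q' := congrArg Subtype.val heq
    have h5 : p'⁻¹ * p = q' * q⁻¹ := by
      calc p'⁻¹ * p = p'⁻¹ * (p * q) * q⁻¹ := by group
        _ = p'⁻¹ * (p' * q') * q⁻¹ := by rw [h4]
        _ = q' * q⁻¹ := by group
    have h6 : p'⁻¹ * p = 1 := by
      have h7 : p'⁻¹ * p ∈ h.A ⊓ D := mem_inf.2 ⟨h.A.mul_mem (h.A.inv_mem hp'.1) hp.1, by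
        rw [h5]; exact D.mul_mem hq' (D.inv_mem hq)⟩
      rwa [h.inf, mem_bot] at h7
    have h7 : p' = p := inv_mul_eq_one.1 h6
    have h8 : q' = q := by
      rw [h6] at h5
      exact (mul_inv_eq_one.1 h5.symm)
    subst h7 h8
    rfl
  rw [Nat.card_prod] at h3
  calc 4 = 2 * 2 := rfl
    _ ≤ _ := Nat.mul_le_mul h1 h2
    _ ≤ _ := h3

end zcard

section cases

variable {G : Type u} [Group G] [Finite G] {S S' : Sylow 2 G} {P P' : Subgroup G} {D V' D' : Subgroup G} {k m : ℕ}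
  {M : SymK (S : Subgroup G) P (zl (S : Subgroup G) P) D k m} {ε : Fin k → (Fin (2 ^ m + 1) → ZMod 2) → G}
  {F' : Type} [Field F'] [Finite F'] [CharP F' 2] {k' : ℕ} {N : NatD F' S' P' V' D' k'} {i : Fin k}
  {a b : Fin (2 ^ m + 1)} {i' : Fin k'}

/-- `(V_P, V_P^g)` is a mutual pair if `V_P`, `V_P^g` do not commute, `g ∈ C_G(n)` -/
theorem mutual_of (hP : IsParS (S : Subgroup G) P) (h : Lb M ε) (hF : FOne M ε) {i : Fin k} {a b : Fin (2 ^ m + 1)}
    (hab : a ≠ b) {g v w : G} (hg : g ∈ centralizer ({du ε i a b} : Set G)) (hv : v ∈ zl (S : Subgroup G) P)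
    (hw : w ∈ zl (S : Subgroup G) P) (hne : v * (g * w * g⁻¹) ≠ g * w * g⁻¹ * v) :
    Mutual (S : Subgroup G) P P g := by
  have hQ : o2 (centralizer ({du ε i a b} : Set G)) ≤ normalizer (zl (S : Subgroup G) P : Set G) := by
    refine Cv.TwoA.le_normalizer_of fun x hx v hv => ?_
    have e : x * v * x⁻¹ = ⁅x, v⁆ * v := by rw [commutatorElement_def]; group
    rw [e]
    refine mul_mem ?_ hv
    rcases hF.comm i a b hab x hx v hv with h1 | h1
    · rw [h1]; exact one_mem _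
    · rw [h1]; exact h.du_mem i a b
  have hle := hF.le i a b hab
  have hgQ : ZN.ChoiceBase.cj g (o2 (centralizer ({du ε i a b} : Set G))) =
      o2 (centralizer ({du ε i a b} : Set G)) :=
    ZN.ChoiceBase.cj_eq_of_mem_normalizer (VModule.le_normalizer_o2 _ hg)
  refine ⟨hP, hP, ?_, ?_, ?_⟩
  · change _ ≤ normalizer ((ZN.ChoiceBase.cj g (zl (S : Subgroup G) P) : Subgroup G) : Set G)
    rw [← ZN.ChoiceBase.cj_normalizer]
    refine hle.trans ?_
    rw [← hgQ]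
    exact ZN.ChoiceBase.cj_mono g hQ
  · change ZN.ChoiceBase.cj g (zl (S : Subgroup G) P) ≤ _
    have := ZN.ChoiceBase.cj_mono g hle
    rw [hgQ] at this
    exact this.trans hQ
  · intro h0
    rw [commutator_eq_bot_iff_le_centralizer] at h0
    have h1 : g * w * g⁻¹ ∈ ZN.ChoiceBase.cj g (zl (S : Subgroup G) P) := by
      rw [mem_cj_iff]
      have e : g⁻¹ * (g * w * g⁻¹) * g = w := by group
      rw [e]
      exact hw
    exact hne (mem_centralizer_iff.1 (h0 hv) _ h1).symm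

/-- **The three cases.** -/
theorem cases (t : TN S S' P P' M ε N i a b i') (h : Lb M ε) (hF : FOne M ε) (hk : k' = 1 ∨ k' = 2) :
    UnM N i' ∨ (∃ g ∈ centralizer ({du ε i a b} : Set G), Mutual (S : Subgroup G) P P g) ∨
      Mxd S S' P P' M ε N i a b i' := by
  by_cases hu : UnM N i'
  · exact Or.inl hu
  by_cases hc : ∀ g ∈ centralizer ({du ε i a b} : Set G), ∀ v ∈ zl (S : Subgroup G) P, ∀ w ∈ zl (S : Subgroup G) P,
    v * (g * w * g⁻¹) = g * w * g⁻¹ * v
  · right; right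
    exact { toTN := t
            lb := h
            one := hF
            k12 := hk
            comm' := fun g hg v hv w hw => NV.comm_of_not_unM hu g (by rwa [t.normalizer_line h]) v hv w hw
            commV := hc }
  · right; left
    push Not at hc
    obtain ⟨g, hg, v, hv, w, hw, hne⟩ := hc
    exact ⟨g, hg, mutual_of t.pair.star h hF t.ne hg hv hw hne⟩

end cases

section main

variable {G : Type u} [Group G] [Finite G] {S S' : Sylow 2 G} {P P' : Subgroup G} {k m k' : ℕ}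

/-- **The data for a pair of types T, natural.** -/
theorem exists_nat (hc : IsCharacteristicTwoType G) (hp : Pair S S' P P')
    (hT : NoOver (zl (S : Subgroup G) P) P) (hT' : NoOver (zl (S' : Subgroup G) P') P') (hk : 0 < k) (hm : 2 ≤ m)
    (hS : IsSym (S : Subgroup G) P k m) (hk' : k' = 1 ∨ k' = 2) (hN : IsNat (S' : Subgroup G) P' k')
    (hf : ¬ (Free (S : Subgroup G) P ∧ Free (S' : Subgroup G) P')) :
    ∃ (F' : Type) (_ : Field F') (_ : Finite F') (_ : CharP F' 2)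
      (M : SymK (S : Subgroup G) P (zl (S : Subgroup G) P) (cv (S : Subgroup G) P) k m)
      (ε : Fin k → (Fin (2 ^ m + 1) → ZMod 2) → G) (N : NatD F' S' P' (vx (S' : Subgroup G) P') (cv (S' : Subgroup G) P') k')
      (i : Fin k) (a b : Fin (2 ^ m + 1)) (i' : Fin k'), Lb M ε ∧ FOne M ε ∧ cv (S' : Subgroup G) P' ≠ ⊥ ∧
        TN S S' P P' M ε N i a b i' ∧
        (UnM N i' ∨ (∃ g ∈ centralizer ({du ε i a b} : Set G), Mutual (S : Subgroup G) P P g) ∨
          Mxd S S' P P' M ε N i a b i') := by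
  obtain ⟨M⟩ := hS
  obtain ⟨F', i1, i2, i3, ⟨M'⟩⟩ := hN
  obtain ⟨ε, hL⟩ := exists_lb hc S hp.star hk (by omega) M
  have hF := SymWrD.fOne_all hc hp.star hL hk hm
  obtain ⟨N, -, i, a, b, i', t⟩ := exists_tn hc hp hT hT' hL hF M' (by omega)
  refine ⟨F', i1, i2, i3, M, ε, N, i, a, b, i', hL, hF, ?_, t, cases t hL hF hk'⟩
  have h4 : 4 ≤ Nat.card (zc (S' : Subgroup G)) := by
    by_cases hD' : cv (S' : Subgroup G) P' = ⊥
    · have hD : cv (S : Subgroup G) P ≠ ⊥ := fun h0 => hf ⟨h0, hD'⟩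
      have h1 : Nat.card (zc (S' : Subgroup G)) = Nat.card (zc (S : Subgroup G)) :=
        Half.card_zc_of_card_eq S S'.isPGroup' (by rw [S.card_eq_multiplicity, S'.card_eq_multiplicity])
      rw [h1]
      exact four_le_zc hL i hD
    · exact NV.four_le_zc N i' hD'
  exact NV.D_ne_bot N i' t.cardF h4

/-- **`k' = 2`.** -/
theorem nat_two (hc : IsCharacteristicTwoType G) (hp : Pair S S' P P')
    (hT : NoOver (zl (S : Subgroup G) P) P) (hT' : NoOver (zl (S' : Subgroup G) P') P') (hk : 0 < k) (hm : 2 ≤ m)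
    (hS : IsSym (S : Subgroup G) P k m) (hN : IsNat (S' : Subgroup G) P' 2)
    (hf : ¬ (Free (S : Subgroup G) P ∧ Free (S' : Subgroup G) P')) :
    (∃ g, Mutual (S : Subgroup G) P P g) ∨
    ∃ (F' : Type) (_ : Field F') (_ : Finite F') (_ : CharP F' 2)
      (N : NatD F' S' P' (vx (S' : Subgroup G) P') (cv (S' : Subgroup G) P') 2) (i' : Fin 2), Nat.card F' = 2 ∧
        cv (S' : Subgroup G) P' ≠ ⊥ ∧ NV.fac N.toNatV i' ≤ o2 (normalizer (NV.line N.toNatV i' : Set G)) ∧ UnM N i' := by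
  obtain ⟨F', i1, i2, i3, M, ε, N, i, a, b, i', hL, hF, hD', t, h | ⟨g, -, h⟩ | h⟩ :=
    exists_nat hc hp hT hT' hk hm hS (Or.inr rfl) hN hf
  · right
    refine ⟨F', i1, i2, i3, N, i', t.cardF, hD', ?_, h⟩
    rw [t.normalizer_line hL]
    exact ((NV.fac_le _ _).trans N.V_le).trans (t.le_o2 hL (Or.inr rfl))
  · exact Or.inl ⟨g, h⟩
  · exact (h.two_false hD').elim

end main

end Cfsg.Agent.Omega.IId.SwCv.NatM
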