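import Cfsg.Agent.Omega.IId.SwCv.NatM.SymK
import Cfsg.Agent.Omega.IId.SwCv.Conc
import Cfsg.Agent.Omega.TwoFFour.Syl

/-!
# (7)-(9) of helper48 #20133 (project OMEGA, II.d, SwCv, natural partner)

`P` of type `S_{2^m+1} wr 2` with `|C_V(O²(P))| = 2`, `n` a duad of the summand `i`, `H = C_G(n)`, `O₂(H) ≤ S`; `u`
an involution centralised by `H` and by `N_P(Vᵢ)`; `S'` a Sylow 2-subgroup with `Ω₁(Z(S')) = {1, n, u, nu}`.

* `EndS.clsK` : `M = C_G(u)`, `U = Ω₁(Z(O₂(M)))` and the class `n^M` satisfy `ClsK`; `V ≤ U`;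
* `EndS.case_comm` : (8), `S` centralises `u`;
* `EndS.false` : the contradiction.
-/

set_option autoImplicit false
set_option linter.unusedSectionVars false

namespace Cfsg.Agent.Omega.IId.SwCv.NatM

open Subgroup Cfsg Cfsg.Agent.ZN Cfsg.Agent.Omega.FFThm Cfsg.Agent.Omega.MinPar
open Cfsg.Agent.Omega.FrameFF (cv)
open Cfsg.Agent.Omega.IId.One (Kk cz mem_cz Kk_conj conj_Kk conj_cz conj_o2_cz Kk_le le_normalizer_Kk Kk_le_o2)
open Cfsg.Agent.Omega.S5.Of (hat hat_add sum_hat hat_eq_zero_iff)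
open Cfsg.Agent.Omega.F4.Split (hat_single)
open Cfsg.Agent.Omega.TwoFFour (Syl2)
open Cfsg.Agent.MinSimple.Basic (not_dvd_relIndex char2_centralizer)
open Cfsg.Agent.MinSimple.VModule (mem_zc le_normalizer_o2 o2_le)
open Lb (SwA)

universe u

variable {G : Type u} [Group G]

/-- a 2-group `S` normalising the nontrivial elementary abelian group `N` has a nontrivial fixed point in `N` -/
theorem exists_fixed_el [Finite G] {S N : Subgroup G} (hS : IsPGroup 2 S) (hN : N ≠ ⊥) (hsq : ∀ n ∈ N, n * n = 1)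
    (hn : ∀ s ∈ S, ∀ n ∈ N, s * n * s⁻¹ ∈ N) : ∃ n ∈ N, n ≠ 1 ∧ ∀ s ∈ S, s * n = n * s := by
  have : Fact (Nat.Prime 2) := ⟨Nat.prime_two⟩
  let act : MulAction S N :=
    { smul := fun s n => ⟨(s : G) * n * (s : G)⁻¹, hn s s.2 n n.2⟩
      one_smul := fun n => Subtype.ext (by change (1 : G) * n * (1 : G)⁻¹ = n; simp)
      mul_smul := fun a b n => Subtype.ext (by
        change ((a : G) * b) * n * ((a : G) * b)⁻¹ = a * (b * n * (b : G)⁻¹) * (a : G)⁻¹
        simp [mul_assoc]) }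
  have hdvd : 2 ∣ Nat.card N := by
    obtain ⟨n, hn1⟩ := ne_bot_iff_exists_ne_one.1 hN
    have h2 : orderOf n = 2 := by
      apply orderOf_eq_prime
      · rw [pow_two]; exact Subtype.ext (hsq _ n.2)
      · exact hn1
    rw [← h2]
    exact orderOf_dvd_natCard _
  have h1 : (1 : N) ∈ MulAction.fixedPoints S N := by
    intro s
    apply Subtype.ext
    change (s : G) * 1 * (s : G)⁻¹ = 1
    simp
  obtain ⟨b, hb, hne⟩ := hS.exists_fixed_point_of_prime_dvd_card_of_fixed_point N hdvd h1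
  refine ⟨b, b.2, fun h => hne (Subtype.ext h.symm), fun s hs => ?_⟩
  have h2 : s * (b : G) * s⁻¹ = b := congrArg Subtype.val (hb ⟨s, hs⟩)
  exact mul_inv_eq_iff_eq_mul.1 h2

/-! ### Actions -/

section acts

variable {T H V D : Subgroup G} {k m : ℕ} {M : SymK T H V D k m}

theorem acts_unique (hm : 1 ≤ m) {g : G} {σ σ' : Equiv.Perm (Fin k)} {τ τ' : Fin k → Equiv.Perm (Fin (2 ^ m + 1))}
    (h1 : ActsSym M.e V g σ τ) (h2 : ActsSym M.e V g σ' τ') : σ = σ' := by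
  have h3 := Spl.ac_unique M hm ((Spl.ac_iff M).1 h1) ((Spl.ac_iff M).1 h2)
  ext1 i
  have h4 := congrArg (fun p : Equiv.Perm (Fin k × Fin (2 ^ m + 1)) => (p (i, 0)).1) h3
  exact h4

theorem acts_mulE {g g' : G} (hg' : g' ∈ normalizer (V : Set G)) {σ σ' : Equiv.Perm (Fin k)}
    {τ τ' : Fin k → Equiv.Perm (Fin (2 ^ m + 1))} (h1 : ActsSym M.e V g σ τ) (h2 : ActsSym M.e V g' σ' τ') :
    ActsSym M.e V (g * g') (σ * σ') fun i => τ (σ' i) * τ' i := by
  intro v hv i x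
  have hv' := (mem_normalizer_iff.1 hg' v).1 hv
  have h3 := h1 _ hv' (σ' i) (τ' i x)
  rw [h2 v hv] at h3
  have e : g * g' * v * (g * g')⁻¹ = g * (g' * v * g'⁻¹) * g⁻¹ := by group
  rw [e]
  exact h3

theorem acts_invE {g : G} (hg : g ∈ normalizer (V : Set G)) {σ : Equiv.Perm (Fin k)}
    {τ : Fin k → Equiv.Perm (Fin (2 ^ m + 1))} (h1 : ActsSym M.e V g σ τ) :
    ActsSym M.e V g⁻¹ σ⁻¹ fun i => (τ (σ⁻¹ i))⁻¹ := by
  intro v hv i x
  have hv' : g⁻¹ * v * g⁻¹⁻¹ ∈ V := (mem_normalizer_iff.1 (inv_mem hg) v).1 hv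
  have h3 := h1 _ hv' (σ⁻¹ i) ((τ (σ⁻¹ i))⁻¹ x)
  have e : g * (g⁻¹ * v * g⁻¹⁻¹) * g⁻¹ = v := by group
  have e1 : σ (σ⁻¹ i) = i := σ.apply_symm_apply i
  have e2 : τ (σ⁻¹ i) ((τ (σ⁻¹ i))⁻¹ x) = x := (τ (σ⁻¹ i)).apply_symm_apply x
  rw [e, e2, e1] at h3
  exact h3.symm

end acts

/-! ### The situation -/

/-- the hypotheses of the end -/
structure EndS (S S' : Sylow 2 G) (P : Subgroup G) {m : ℕ}
    (M : SymK (S : Subgroup G) P (zl (S : Subgroup G) P) (cv (S : Subgroup G) P) 2 m)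
    (ε : Fin 2 → (Fin (2 ^ m + 1) → ZMod 2) → G) (i : Fin 2) (a b : Fin (2 ^ m + 1)) (u : G) : Prop where
  c2 : IsCharacteristicTwoType G
  par : IsParS (S : Subgroup G) P
  lb : Lb M ε
  hm : 2 ≤ m
  f1 : FOne M ε
  card_D : Nat.card (cv (S : Subgroup G) P) = 2
  ne : a ≠ b
  QS : o2 (centralizer ({du ε i a b} : Set G)) ≤ (S : Subgroup G)
  sw : ∃ x ∈ Kk (du ε i a b), SwA M x i a b
  u1 : u ≠ 1
  un : u ≠ du ε i a b
  zS' : ∀ z, z ∈ zc (S' : Subgroup G) ↔ z = 1 ∨ z = du ε i a b ∨ z = u ∨ z = du ε i a b * u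
  Hu : ∀ g, g * du ε i a b = du ε i a b * g → g * u = u * g
  Pu : ∀ g ∈ P, (∀ σ τ, ActsSym M.e (zl (S : Subgroup G) P) g σ τ → σ i = i) → g * u = u * g

namespace EndS

variable [Finite G] {S S' : Sylow 2 G} {P : Subgroup G} {m : ℕ}
  {M : SymK (S : Subgroup G) P (zl (S : Subgroup G) P) (cv (S : Subgroup G) P) 2 m}
  {ε : Fin 2 → (Fin (2 ^ m + 1) → ZMod 2) → G} {i : Fin 2} {a b : Fin (2 ^ m + 1)} {u : G}
  (h : EndS S S' P M ε i a b u)
include h

theorem comm_u {g : G} (hg : g ∈ P) {σ : Equiv.Perm (Fin 2)} {τ : Fin 2 → Equiv.Perm (Fin (2 ^ m + 1))}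
    (ha : ActsSym M.e (zl (S : Subgroup G) P) g σ τ) (hσ : σ i = i) : g * u = u * g :=
  h.Pu g hg fun σ' τ' ha' => by rw [acts_unique h.lb.hm ha' ha]; exact hσ

theorem n_ne : du ε i a b ≠ 1 := h.lb.du_ne_one h.ne

theorem nn : du ε i a b * du ε i a b = 1 := h.lb.du_mul_self i a b

theorem uz : u ∈ zc (S' : Subgroup G) := (h.zS' u).2 (Or.inr (Or.inr (Or.inl rfl)))

theorem nz : du ε i a b ∈ zc (S' : Subgroup G) := (h.zS' _).2 (Or.inr (Or.inl rfl))

theorem u_sq : u ^ 2 = 1 := (mem_zc.1 h.uz).2.2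

theorem uu : u * u = 1 := by rw [← pow_two]; exact h.u_sq

theorem nu : du ε i a b * u = u * du ε i a b := h.Hu _ rfl

theorem S'_le : (S' : Subgroup G) ≤ cz u := fun x hx => mem_cz.2 ((mem_zc.1 h.uz).2.1 x hx)

theorem cen_n : cz (du ε i a b) ≤ cz u := fun g hg => mem_cz.2 (h.Hu g (mem_cz.1 hg))

theorem V_le : zl (S : Subgroup G) P ≤ cz u := by
  intro v hv
  refine mem_cz.2 (h.comm_u (h.lb.TH (h.lb.VT hv)) (σ := 1) (τ := 1) ?_ rfl)
  intro w hw i x
  have e : v * w * v⁻¹ = w := by rw [h.lb.comm v hv w hw, mul_inv_cancel_right]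
  rw [e]
  rfl

theorem O_le_S' : o2 (cz u) ≤ (S' : Subgroup G) :=
  MinSimple.VModule.o2_le_of_sylow S'.isPGroup' (not_dvd_relIndex S' h.S'_le)

theorem O_le_Q : o2 (cz u) ≤ o2 (cz (du ε i a b)) := by
  refine MinSimple.VModule.le_o2 (fun x hx => mem_cz.2 ?_) (MinSimple.VModule.o2_isPGroup _)
    (h.cen_n.trans (le_normalizer_o2 _))
  exact (mem_zc.1 h.nz).2.1 x (h.O_le_S' hx)

theorem char2 : cz u ⊓ centralizer (o2 (cz u) : Set G) ≤ o2 (cz u) := char2_centralizer h.c2 h.u_sq h.u1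

theorem mem_U_of {v : G} (hv : v ∈ cz u) (h2 : v * v = 1) (hc : ∀ x ∈ o2 (cz u), x * v = v * x) :
    v ∈ zc (o2 (cz u)) :=
  mem_zc.2 ⟨h.char2 ⟨hv, mem_centralizer_iff.2 hc⟩, hc, by rw [pow_two]; exact h2⟩

theorem u_mem_U : u ∈ zc (o2 (cz u)) :=
  h.mem_U_of (mem_cz.2 rfl) h.uu fun _ hx => mem_cz.1 (o2_le _ hx)

theorem perp_mem {v : G} (hv : v ∈ zl (S : Subgroup G) P) (he : M.e v i a = M.e v i b) : v ∈ zc (o2 (cz u)) :=
  h.mem_U_of (h.V_le hv) (h.lb.mul_self hv) fun x hx => h.f1.perp i a b h.ne x (h.O_le_Q hx) v hv he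

theorem e_n (l : Fin 2) (x : Fin (2 ^ m + 1)) :
    M.e (du ε i a b) l x = if l = i then (if x = a then 1 else 0) + (if x = b then 1 else 0) else 0 := by
  rw [h.lb.e_du]
  by_cases hl : l = i
  · subst hl
    rw [Pi.single_eq_same, if_pos rfl, Pi.add_apply, Pi.single_apply, Pi.single_apply]
  · rw [Pi.single_eq_of_ne hl, if_neg hl]
    rfl

theorem clsK : ClsK (cz u) (zc (o2 (cz u))) (du ε i a b) where
  comm x hx y hy := ((mem_zc.1 hy).2.1 x (mem_zc.1 hx).1)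
  sq x hx := by rw [← pow_two]; exact (mem_zc.1 hx).2.2
  nor g hg x hx := (mem_normalizer_iff.1 (MinSimple.VModule.normalizer_le_normalizer_zc _
    (le_normalizer_o2 _ hg)) x).1 hx
  mem := h.perp_mem (h.lb.du_mem i a b) (by rw [h.e_n, h.e_n]; simp [h.ne, h.ne.symm])
  ne := h.n_ne
  cen := h.cen_n
  le x hx := h.O_le_Q (mem_zc.1 hx).1

/-- the letters `a`, `b` are not the fixed letter -/
theorem ab_ne : a ≠ 0 ∧ b ≠ 0 := by
  obtain ⟨x, hx, hs⟩ := h.sw
  have hxS : x ∈ (S : Subgroup G) := h.QS (Kk_le_o2 h.c2 h.nn h.n_ne hx)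
  have h1 := M.fix0 x hxS 1 _ hs i
  rw [Function.update_self] at h1
  constructor
  · rintro rfl
    rw [Equiv.swap_apply_left] at h1
    exact h.ne h1.symm
  · rintro rfl
    rw [Equiv.swap_apply_right] at h1
    exact h.ne h1

/-- duads of the summand `i` are conjugate to `n` in `C_P(u)` -/
theorem exists_lift {c c' : Fin (2 ^ m + 1)} (hc : c ≠ c') : ∃ g ∈ P, ∃ τ : Fin 2 → Equiv.Perm (Fin (2 ^ m + 1)),
    ActsSym M.e (zl (S : Subgroup G) P) g 1 τ ∧ τ i a = c ∧ τ i b = c' := by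
  obtain ⟨p, hp1, hp2⟩ : ∃ p : Equiv.Perm (Fin (2 ^ m + 1)), p a = c ∧ p b = c' := by
    have hne := h.ne
    refine ⟨(Equiv.swap a c).trans (Equiv.swap ((Equiv.swap a c) b) c'), ?_, ?_⟩
    · rw [Equiv.trans_apply, Equiv.swap_apply_left, Equiv.swap_apply_of_ne_of_ne ?_ hc]
      intro h1
      have h2 : Equiv.swap a c c = Equiv.swap a c (Equiv.swap a c b) := congrArg _ h1
      rw [Equiv.swap_apply_self, Equiv.swap_apply_right] at h2
      exact hne h2
    · rw [Equiv.trans_apply, Equiv.swap_apply_left]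
  obtain ⟨g, hg, ha, -⟩ := M.lift fun _ => p
  exact ⟨g, hg, _, ha, hp1, hp2⟩

theorem du_pp {c c' : Fin (2 ^ m + 1)} (hc : c ≠ c') : PPc (cz u) (du ε i a b) (du ε i c c') := by
  obtain ⟨g, hg, τ, ha, h1, h2⟩ := h.exists_lift hc
  refine ⟨g, mem_cz.2 (h.comm_u hg ha rfl), ?_⟩
  rw [h.lb.conj_du hg ha, h1, h2]
  rfl

/-- **`V ≤ U`** -/
theorem V_le_U : zl (S : Subgroup G) P ≤ zc (o2 (cz u)) := by
  intro v hv
  by_cases he : M.e v i a = M.e v i b
  · exact h.perp_mem hv he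
  have h0 := h.ab_ne
  have h1 : du ε i a 0 ∈ zc (o2 (cz u)) := h.clsK.pp_mem (h.du_pp h0.1)
  have h2 : v * du ε i a 0 ∈ zc (o2 (cz u)) := by
    refine h.perp_mem (mul_mem hv (h.lb.du_mem i a 0)) ?_
    rw [M.mul v hv _ (h.lb.du_mem i a 0), h.lb.e_du]
    simp only [Pi.add_apply, Pi.single_eq_same, Pi.single_eq_of_ne h0.1, Pi.single_eq_of_ne h0.2,
      Pi.single_eq_of_ne h.ne.symm, add_zero]
    revert he
    generalize M.e v i a = y
    generalize M.e v i b = z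
    revert y z
    decide
  have h3 := mul_mem h2 (inv_mem h1)
  rwa [mul_inv_cancel_right] at h3

/-- an element of `K_{a0}` which moves the vectors `v` with `v_a ≠ v_0` -/
theorem exists_k0 : ∃ x ∈ Kk (du ε i a 0), ∀ v ∈ zl (S : Subgroup G) P, M.e v i a ≠ M.e v i 0 → x * v ≠ v * x := by
  obtain ⟨x, hx, hs⟩ := h.sw
  obtain ⟨g, hg, τ, ha, h1, h2⟩ := h.exists_lift h.ab_ne.1
  have hc : g * du ε i a b * g⁻¹ = du ε i a 0 := by rw [h.lb.conj_du hg ha, h1, h2]; rfl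
  refine ⟨g * x * g⁻¹, conj_Kk hc hx, fun v hv hne hcomm => ?_⟩
  have hw : g⁻¹ * v * g ∈ zl (S : Subgroup G) P := by
    have := h.lb.conj_mem (inv_mem hg) hv
    rwa [inv_inv] at this
  have hxP : x ∈ P := h.lb.TH (h.QS (Kk_le_o2 h.c2 h.nn h.n_ne hx))
  have e : g * (g⁻¹ * v * g) * g⁻¹ = v := by group
  have ea := ha _ hw i a
  have eb := ha _ hw i b
  rw [e, Equiv.Perm.one_apply] at ea eb
  rw [h1] at ea
  rw [h2] at eb
  rcases h.lb.comm_swap hxP hs hw with ⟨h3, -⟩ | ⟨-, h3⟩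
  · rw [← ea, ← eb] at h3
    exact hne h3
  · apply h.n_ne
    rw [← h3, commutatorElement_def]
    calc x * (g⁻¹ * v * g) * x⁻¹ * (g⁻¹ * v * g)⁻¹ = g⁻¹ * (g * x * g⁻¹ * v) * (g * x⁻¹ * g⁻¹) * v⁻¹ * g := by group
      _ = g⁻¹ * (v * (g * x * g⁻¹)) * (g * x⁻¹ * g⁻¹) * v⁻¹ * g := by rw [hcomm]
      _ = 1 := by group

/-! ### Sylow 2-subgroups of `C_G(u)` -/

omit h in
theorem perm_two : ∀ (σ σ' : Equiv.Perm (Fin 2)) (i : Fin 2), σ i ≠ i → σ' i ≠ i → σ (σ' i) = i := by decide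

/-- a Sylow 2-subgroup `SM` of `C_G(u)` which contains `R` -/
theorem exists_con {R : Subgroup G} (hR : R ≤ cz u) (h2 : IsPGroup 2 R) : ∃ SM : Sylow 2 G, ∃ n₁,
    R ≤ (SM : Subgroup G) ∧ (SM : Subgroup G) ≤ cz u ∧ PPc (cz u) (du ε i a b) n₁ ∧ n₁ ≠ u ∧
      ∀ z, z ∈ zc (SM : Subgroup G) ↔ z = 1 ∨ z = n₁ ∨ z = u ∨ z = n₁ * u := by
  obtain ⟨c, hc, hcR⟩ := (Syl2.of_sylow S' h.S'_le).exists_conj_le hR h2
  have hcu : c * u * c⁻¹ = u := by rw [mem_cz.1 hc, mul_inv_cancel_right]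
  have hmem : ∀ {A : Subgroup G} {x : G}, x ∈ ChoiceBase.cj c⁻¹ A ↔ c * x * c⁻¹ ∈ A := by
    intro A x
    rw [ChoiceBase.mem_cj, inv_inv]
  refine ⟨sy c⁻¹ S', c⁻¹ * du ε i a b * c, ?_, ?_, ⟨c⁻¹, inv_mem hc, by group⟩, ?_, fun z => ?_⟩
  · rw [sy_coe]
    exact fun r hr => hmem.2 (hcR r hr)
  · rw [sy_coe]
    intro x hx
    have h1 := mem_cz.1 (h.S'_le (hmem.1 hx))
    rw [mem_cz]
    calc x * u = c⁻¹ * (c * x * c⁻¹ * (c * u * c⁻¹)) * c := by group
      _ = c⁻¹ * (u * (c * x * c⁻¹)) * c := by rw [hcu, h1]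
      _ = c⁻¹ * (c * u * c⁻¹ * (c * x * c⁻¹)) * c := by rw [hcu]
      _ = u * x := by group
  · intro h1
    apply h.un
    calc u = c * u * c⁻¹ := hcu.symm
      _ = c * (c⁻¹ * du ε i a b * c) * c⁻¹ := by rw [← h1]
      _ = du ε i a b := by group
  · rw [sy_coe, MinSimple.EmptyTI.zc_cj, hmem, h.zS']
    have e0 : ∀ w, c * z * c⁻¹ = w ↔ z = c⁻¹ * w * c := by
      intro w
      constructor
      · rintro rfl; group
      · rintro rfl; group
    have eu : c⁻¹ * u * c = u := by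
      calc c⁻¹ * u * c = c⁻¹ * (c * u * c⁻¹) * c := by rw [hcu]
        _ = u := by group
    have e1 : c⁻¹ * 1 * c = 1 := by group
    have e2 : c⁻¹ * (du ε i a b * u) * c = c⁻¹ * du ε i a b * c * u := by
      calc c⁻¹ * (du ε i a b * u) * c = c⁻¹ * du ε i a b * c * (c⁻¹ * u * c) := by group
        _ = c⁻¹ * du ε i a b * c * u := by rw [eu]
    rw [e0, e0, e0, e0, eu, e1, e2]

omit h in
theorem ntw {l l' : Fin 2} (h1 : l ≠ i) (h2 : l' ≠ i) : l = l' := by omega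

theorem V_norm : P ≤ normalizer (zl (S : Subgroup G) P : Set G) := h.lb.HV

theorem S_le_P : (S : Subgroup G) ≤ P := h.par.isLoc.le

/-- the fixed vectors of `S` outside `D` -/
theorem e_fix {z : G} (hz : z ∈ zl (S : Subgroup G) P) (hzS : ∀ t ∈ (S : Subgroup G), t * z = z * t)
    (hzD : z ∉ cv (S : Subgroup G) P) (l : Fin 2) : M.e z l = hat (Pi.single 0 1) := by
  rcases Spl.fixed_cases M h.V_norm h.S_le_P (not_dvd_relIndex S h.S_le_P) h.lb.hm l hz hzS with h1 | h1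
  · exfalso
    apply hzD
    rw [← M.ker z hz]
    funext l'
    obtain ⟨t, ht, σ, τ, ha, hσ⟩ := M.trans l l'
    funext x
    obtain ⟨y, rfl⟩ := (τ l).surjective x
    have h2 := ha z hz l y
    rw [hzS t ht, mul_inv_cancel_right, hσ, h1] at h2
    exact h2
  · exact h1

theorem hat0 (x : Fin (2 ^ m + 1)) : hat (Pi.single 0 1 : Fin (2 ^ m + 1) → ZMod 2) x = if x = 0 then 0 else 1 := by
  have _ := h.u1
  rw [hat_single]
  by_cases hx : x = 0
  · rw [if_pos hx, if_pos hx]; decide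
  · rw [if_neg hx, if_neg hx, zero_add]

theorem K_le_SM {SM : Sylow 2 G} {n₁ : G} (hpp : PPc (cz u) (du ε i a b) n₁) (hz : n₁ ∈ zc (SM : Subgroup G)) :
    Kk n₁ ≤ (SM : Subgroup G) := by
  have h1 : (SM : Subgroup G) ≤ cz n₁ := fun x hx => mem_cz.2 ((mem_zc.1 hz).2.1 x hx)
  have h2 := h.clsK.sq n₁ (h.clsK.pp_mem hpp)
  exact (Kk_le_o2 h.c2 h2 (h.clsK.pp_ne hpp)).trans
    (MinSimple.VModule.o2_le_of_sylow SM.isPGroup' (not_dvd_relIndex SM h1))

/-- **(8)** -/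
theorem case_comm (hs : (S : Subgroup G) ≤ cz u) : False := by
  obtain ⟨SM, n₁, hle, hSM, hpp, hnu, hz⟩ := h.exists_con hs S.isPGroup'
  have hSS : (SM : Subgroup G) = (S : Subgroup G) := S.is_maximal' SM.isPGroup' hle
  have huz : u ∈ zc (S : Subgroup G) := by rw [← hSS]; exact (hz u).2 (Or.inr (Or.inr (Or.inl rfl)))
  have hnz : n₁ ∈ zc (S : Subgroup G) := by rw [← hSS]; exact (hz n₁).2 (Or.inr (Or.inl rfl))
  have huV := MinSimple.VModule.zc_le_zl (S : Subgroup G) P huz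
  have hnV := MinSimple.VModule.zc_le_zl (S : Subgroup G) P hnz
  have hnS := (mem_zc.1 hnz).2.1
  -- `P` centralises `u`
  have hPu : ∀ g ∈ P, g * u = u * g := by
    intro g hg
    obtain ⟨σ, τ, ha⟩ := M.perm g hg
    obtain ⟨s, hs', σ', τ', ha', hσ⟩ := M.trans i (σ i)
    have h1 := acts_mulE (h.V_norm hg) (acts_invE (h.V_norm (h.S_le_P hs')) ha') ha
    have h2 : (σ'⁻¹ * σ) i = i := by
      rw [Equiv.Perm.mul_apply, ← hσ]
      exact σ'.symm_apply_apply i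
    have h3 := h.comm_u (mul_mem (inv_mem (h.S_le_P hs')) hg) h1 h2
    have h4 := mem_cz.1 (hs hs')
    calc g * u = s * (s⁻¹ * g * u) := by group
      _ = s * (u * (s⁻¹ * g)) := by rw [h3]
      _ = s * u * s⁻¹ * g := by group
      _ = u * g := by rw [h4]; group
  have huD : u ∈ cv (S : Subgroup G) P :=
    ⟨huV, mem_centralizer_iff.2 fun x hx => hPu x (MinSimple.VModule.oddGen_le P hx)⟩
  have hn1 := h.clsK.pp_ne hpp
  have hnD : n₁ ∉ cv (S : Subgroup G) P := by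
    intro h1
    have h2 : Nat.card (cv (S : Subgroup G) P) = 2 := h.card_D
    obtain ⟨x, -, hx⟩ := (Nat.card_eq_two_iff' (1 : cv (S : Subgroup G) P)).1 h2
    have h3 := hx ⟨n₁, h1⟩ fun h0 => hn1 (congrArg Subtype.val h0)
    have h4 := hx ⟨u, huD⟩ fun h0 => h.u1 (congrArg Subtype.val h0)
    exact hnu (congrArg Subtype.val (h3.trans h4.symm))
  have he := h.e_fix hnV hnS hnD
  obtain ⟨x, hx, hmove⟩ := h.exists_k0
  have h0 := h.ab_ne
  have hxn : x * n₁ ≠ n₁ * x := by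
    apply hmove n₁ hnV
    rw [he, h.hat0, h.hat0, if_neg h0.1, if_pos rfl]
    decide
  have hp0 := h.du_pp h0.1
  -- some `k ∈ K_{n₁}` moves `{a, 0}`
  obtain ⟨k, hk, hkn⟩ : ∃ k ∈ Kk n₁, k * du ε i a 0 ≠ du ε i a 0 * k := by
    by_contra hcon
    push Not at hcon
    exact hxn (h.clsK.sym hp0 hpp hcon x hx)
  have hk1 : k * du ε i a 0 * k⁻¹ = n₁ * du ε i a 0 :=
    (h.clsK.act hpp hk (h.clsK.pp_mem hp0)).resolve_left fun h1 => hkn (mul_inv_eq_iff_eq_mul.1 h1)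
  have hkS : k ∈ (S : Subgroup G) := by
    rw [← hSS]
    exact h.K_le_SM hpp (by rw [hSS]; exact hnz) hk
  obtain ⟨σ, τ, ha⟩ := M.perm k (h.S_le_P hkS)
  rw [h.lb.conj_du (h.S_le_P hkS) ha] at hk1
  have hk2 := congrArg M.e hk1
  rw [M.mul n₁ hnV _ (h.lb.du_mem i a 0), h.lb.e_du, h.lb.e_du] at hk2
  obtain ⟨j, hj⟩ : ∃ j, j ≠ i := ⟨1 - i, by clear * -; revert i; decide⟩
  have e1 := congrFun (congrFun hk2 i) 0
  have e2 := congrFun (congrFun hk2 j) a
  rw [Pi.add_apply, Pi.add_apply, he, h.hat0, if_pos rfl, Pi.single_eq_same, Pi.add_apply,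
    Pi.single_eq_of_ne (Ne.symm h0.1), Pi.single_eq_same, zero_add, zero_add] at e1
  rw [Pi.add_apply, Pi.add_apply, he, h.hat0, if_neg h0.1, Pi.single_eq_of_ne hj, Pi.zero_apply, add_zero] at e2
  have hi : σ i = i := by
    by_contra hne
    rw [Pi.single_eq_of_ne (Ne.symm hne)] at e1
    exact absurd e1 (by simp)
  rw [Pi.single_eq_of_ne (by rw [hi]; exact hj)] at e2
  exact absurd e2 (by simp)

end EndS

/-! ### The summand `i` -/

/-- the `i`-th summand -/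
def SI {T H V D : Subgroup G} {k m : ℕ} {M : SymK T H V D k m} {ε : Fin k → (Fin (2 ^ m + 1) → ZMod 2) → G}
    (lb : Lb M ε) (i : Fin k) : Subgroup G where
  carrier := Set.range (ε i)
  one_mem' := ⟨0, lb.zero i⟩
  mul_mem' := by
    rintro _ _ ⟨x, rfl⟩ ⟨y, rfl⟩
    exact ⟨x + y, lb.add i x y⟩
  inv_mem' := by
    rintro _ ⟨x, rfl⟩
    exact ⟨x, (lb.inv_eq (lb.mem i x)).symm⟩

namespace EndS

variable [Finite G] {S S' : Sylow 2 G} {P : Subgroup G} {m : ℕ}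
  {M : SymK (S : Subgroup G) P (zl (S : Subgroup G) P) (cv (S : Subgroup G) P) 2 m}
  {ε : Fin 2 → (Fin (2 ^ m + 1) → ZMod 2) → G} {i : Fin 2} {a b : Fin (2 ^ m + 1)} {u : G}
  (h : EndS S S' P M ε i a b u)
include h

theorem SI_le : SI h.lb i ≤ zl (S : Subgroup G) P := by
  rintro _ ⟨x, rfl⟩
  exact h.lb.mem i x

theorem SI_conj {g w : G} (hg : g ∈ P) {σ : Equiv.Perm (Fin 2)} {τ : Fin 2 → Equiv.Perm (Fin (2 ^ m + 1))}
    (ha : ActsSym M.e (zl (S : Subgroup G) P) g σ τ) (hσ : σ i = i) (hw : w ∈ SI h.lb i) :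
    g * w * g⁻¹ ∈ SI h.lb i := by
  obtain ⟨x, rfl⟩ := hw
  rw [h.lb.act g hg σ τ ha, hσ]
  exact ⟨_, rfl⟩

theorem du_mem_SI (c c' : Fin (2 ^ m + 1)) : du ε i c c' ∈ SI h.lb i := ⟨_, rfl⟩

/-- the `S₁`-fixed vector of the summand `l` -/
theorem s_fix {g : G} (hg : g ∈ (S : Subgroup G)) {σ : Equiv.Perm (Fin 2)}
    {τ : Fin 2 → Equiv.Perm (Fin (2 ^ m + 1))} (ha : ActsSym M.e (zl (S : Subgroup G) P) g σ τ) (l : Fin 2) :
    g * ε l (Pi.single 0 1) * g⁻¹ = ε (σ l) (Pi.single 0 1) := by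
  rw [h.lb.act g (h.S_le_P hg) σ τ ha]
  congr 1
  funext x
  rw [Function.comp_apply, Pi.single_apply, Pi.single_apply]
  refine if_congr ?_ rfl rfl
  rw [Equiv.symm_apply_eq, M.fix0 g hg σ τ ha l]

section nc

variable {s : G} (hs : s ∈ (S : Subgroup G)) (hsu : s ∉ cz u)
include hs hsu

/-- an element of `S` centralises `u` if and only if it normalises the summand `i` -/
theorem mem_cz_iff {g : G} (hg : g ∈ (S : Subgroup G)) {σ : Equiv.Perm (Fin 2)}
    {τ : Fin 2 → Equiv.Perm (Fin (2 ^ m + 1))} (ha : ActsSym M.e (zl (S : Subgroup G) P) g σ τ) :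
    g ∈ cz u ↔ σ i = i := by
  refine ⟨fun hgu => ?_, fun hσ => mem_cz.2 (h.comm_u (h.S_le_P hg) ha hσ)⟩
  by_contra hne
  obtain ⟨σ', τ', ha'⟩ := M.perm s (h.S_le_P hs)
  have hne' : σ' i ≠ i := fun h0 => hsu (mem_cz.2 (h.comm_u (h.S_le_P hs) ha' h0))
  have h1 := acts_mulE (h.V_norm (h.S_le_P hg)) ha' ha
  have h2 := h.comm_u (h.S_le_P (mul_mem hs hg)) h1 (perm_two σ' σ i hne' hne)
  apply hsu
  have h3 := mul_mem (mem_cz.2 h2) (inv_mem hgu)
  rwa [mul_inv_cancel_right] at h3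

/-- `S₁ = C_S(u)` has index 2 in `S` -/
theorem relIndex_S : ((S : Subgroup G) ⊓ cz u).relIndex (S : Subgroup G) = 2 := by
  rw [relIndex_eq_two_iff]
  refine ⟨s, hs, fun g hg => ?_⟩
  by_cases hgu : g ∈ cz u
  · refine Or.inr ⟨⟨hg, hgu⟩, fun h1 => hsu ?_⟩
    have h2 := mul_mem (inv_mem hgu) h1.2
    rwa [inv_mul_cancel_left] at h2
  · refine Or.inl ⟨⟨mul_mem hg hs, ?_⟩, fun h1 => hgu h1.2⟩
    obtain ⟨σ, τ, ha⟩ := M.perm g (h.S_le_P hg)
    obtain ⟨σ', τ', ha'⟩ := M.perm s (h.S_le_P hs)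
    have h1 := acts_mulE (h.V_norm (h.S_le_P hs)) ha ha'
    refine (h.mem_cz_iff hs hsu (mul_mem hg hs) h1).2 (perm_two σ σ' i (fun h0 => hgu ?_) fun h0 => hsu ?_)
    · exact (h.mem_cz_iff hs hsu hg ha).2 h0
    · exact (h.mem_cz_iff hs hsu hs ha').2 h0

/-- the fixed vectors of `S₁` in the summand `i` -/
theorem uniq {w : G} (hw : w ∈ SI h.lb i) (hc : ∀ g ∈ (S : Subgroup G) ⊓ cz u, g * w = w * g) :
    w = 1 ∨ w = ε i (Pi.single 0 1) := by
  have hwV := h.SI_le hw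
  obtain ⟨σ, τ, ha⟩ := M.perm s (h.S_le_P hs)
  have hσ : σ i ≠ i := fun h0 => hsu ((h.mem_cz_iff hs hsu hs ha).2 h0)
  have hsw : s * w * s⁻¹ ∈ zl (S : Subgroup G) P := h.lb.conj_mem (h.S_le_P hs) hwV
  have hr := h.relIndex_S hs hsu
  have hmul : ∀ {x y : G}, x ∈ (S : Subgroup G) → x ∉ cz u → y ∈ (S : Subgroup G) → y ∉ cz u →
      x * y ∈ (S : Subgroup G) ⊓ cz u := by
    intro x y hx hxu hy hyu
    obtain ⟨σ₁, τ₁, ha₁⟩ := M.perm x (h.S_le_P hx)
    obtain ⟨σ₂, τ₂, ha₂⟩ := M.perm y (h.S_le_P hy)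
    refine ⟨mul_mem hx hy, (h.mem_cz_iff hs hsu (mul_mem hx hy)
      (acts_mulE (h.V_norm (h.S_le_P hy)) ha₁ ha₂)).2 (perm_two σ₁ σ₂ i (fun h0 => hxu ?_) fun h0 => hyu ?_)⟩
    · exact (h.mem_cz_iff hs hsu hx ha₁).2 h0
    · exact (h.mem_cz_iff hs hsu hy ha₂).2 h0
  have hsi : s⁻¹ ∉ cz u := fun h0 => hsu (by have := inv_mem h0; rwa [inv_inv] at this)
  have hcc := h.lb.comm w hwV _ hsw
  have hzS : ∀ t ∈ (S : Subgroup G), t * (w * (s * w * s⁻¹)) = w * (s * w * s⁻¹) * t := by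
    intro t ht
    by_cases htu : t ∈ cz u
    · have h1 := hc t ⟨ht, htu⟩
      have h2 : s⁻¹ * t * s ∈ (S : Subgroup G) ⊓ cz u := by
        have h3 : t * s ∉ cz u := fun h0 => hsu (by
          have := mul_mem (inv_mem htu) h0; rwa [inv_mul_cancel_left] at this)
        have h4 := hmul (inv_mem hs) hsi (mul_mem ht hs) h3
        rwa [← mul_assoc] at h4
      have h3 := hc _ h2
      calc t * (w * (s * w * s⁻¹)) = w * (t * s * w * s⁻¹) := by rw [← mul_assoc, h1]; group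
        _ = w * (s * (s⁻¹ * t * s * w) * s⁻¹) := by group
        _ = w * (s * (w * (s⁻¹ * t * s)) * s⁻¹) := by rw [h3]
        _ = w * (s * w * s⁻¹) * t := by group
    · have h2 := hmul ht htu hs hsu
      have h3 := hmul (inv_mem hs) hsi ht htu
      have h4 := hc _ h2
      have h5 := hc _ h3
      have e1 : t * w * t⁻¹ = s * w * s⁻¹ := by
        calc t * w * t⁻¹ = s * (s⁻¹ * t * w) * t⁻¹ := by group
          _ = s * (w * (s⁻¹ * t)) * t⁻¹ := by rw [h5]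
          _ = s * w * s⁻¹ := by group
      have e2 : t * (s * w * s⁻¹) * t⁻¹ = w := by
        calc t * (s * w * s⁻¹) * t⁻¹ = t * s * w * (t * s)⁻¹ := by group
          _ = w := by rw [h4, mul_inv_cancel_right]
      calc t * (w * (s * w * s⁻¹)) = t * w * t⁻¹ * (t * (s * w * s⁻¹) * t⁻¹) * t := by group
        _ = s * w * s⁻¹ * w * t := by rw [e1, e2]
        _ = w * (s * w * s⁻¹) * t := by rw [hcc]
  obtain ⟨x, rfl⟩ := hw
  have hswe : s * ε i x * s⁻¹ = ε (σ i) (x ∘ (τ i).symm) := h.lb.act s (h.S_le_P hs) σ τ ha i x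
  have hzi : M.e (ε i x * (s * ε i x * s⁻¹)) i = hat x := by
    rw [M.mul _ hwV _ hsw, hswe, h.lb.e_eq, h.lb.e_eq, Pi.add_apply, Pi.single_eq_same,
      Pi.single_eq_of_ne (Ne.symm hσ), add_zero]
  have hA := h.lb.lab_mem_A i
  rcases Spl.fixed_cases M h.V_norm h.S_le_P (not_dvd_relIndex S h.S_le_P) h.lb.hm i
    (mul_mem hwV hsw) hzS with h1 | h1
  · left
    apply h.lb.eq_one (hA x)
    rw [h.lb.e_eq, ← hzi, h1, Pi.single_zero]
  · right
    apply h.lb.inj (hA x) (hA _)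
    rw [h.lb.e_eq, h.lb.e_eq, ← hzi, h1]

/-- `S₁`-fixed vectors `sₗ` -/
theorem s_comm {g : G} (hg : g ∈ (S : Subgroup G) ⊓ cz u) (l : Fin 2) :
    g * ε l (Pi.single 0 1) = ε l (Pi.single 0 1) * g := by
  obtain ⟨σ, τ, ha⟩ := M.perm g (h.S_le_P hg.1)
  have h1 := (h.mem_cz_iff hs hsu hg.1 ha).1 hg.2
  have h2 : σ l = l := by
    by_cases hl : l = i
    · rw [hl, h1]
    · by_contra hne
      have h3 : σ l = i := by omega
      exact hl (σ.injective (h3.trans h1.symm))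
  have h3 := h.s_fix hg.1 ha l
  rw [h2] at h3
  exact mul_inv_eq_iff_eq_mul.1 h3

/-- `u ∉ V` -/
theorem u_notMem : u ∉ zl (S : Subgroup G) P := by
  intro hu
  have hc : ∀ l x y, M.e u l x = M.e u l y := by
    intro l x y
    obtain ⟨g, hg, ha, -⟩ := M.lift fun _ => Equiv.swap x y
    have h1 := ha u hu l x
    rw [h.comm_u hg ha rfl, mul_inv_cancel_right, Equiv.swap_apply_left] at h1
    exact h1.symm
  have h0 : M.e u = 0 := by
    funext l x
    have h1 := M.even u hu l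
    rw [Finset.sum_congr rfl fun y _ => hc l y x, Finset.sum_const, Finset.card_univ, Fintype.card_fin,
      nsmul_eq_mul] at h1
    have h2 : ((2 ^ m + 1 : ℕ) : ZMod 2) = 1 := by
      have h3 : ((2 ^ m : ℕ) : ZMod 2) = 0 := by
        rw [ZMod.natCast_eq_zero_iff]
        exact dvd_pow_self 2 (by have := h.hm; omega)
      rw [Nat.cast_add, h3, zero_add, Nat.cast_one]
    rw [h2, one_mul] at h1
    exact h1
  apply hsu
  exact mem_cz.2 (h.lb.cen s (h.S_le_P hs) u ((M.ker u hu).1 h0))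

/-- **(9)** -/
theorem case_nc : False := by
  obtain ⟨SM, n₁, hle, hSM, hpp, hnu, hz⟩ := h.exists_con (inf_le_right : (S : Subgroup G) ⊓ cz u ≤ cz u)
    (S.isPGroup'.to_le inf_le_left)
  have hr := h.relIndex_S hs hsu
  have hfin : Fact (Nat.Prime 2) := ⟨Nat.prime_two⟩
  have hr' : ((S : Subgroup G) ⊓ cz u).relIndex (SM : Subgroup G) = 2 := by
    have c1 := Half.card_mul_relIndex (inf_le_left : (S : Subgroup G) ⊓ cz u ≤ (S : Subgroup G))
    have c2 := Half.card_mul_relIndex hle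
    have c3 : Nat.card (SM : Subgroup G) = Nat.card (S : Subgroup G) := by
      rw [SM.card_eq_multiplicity, S.card_eq_multiplicity]
    rw [c3, ← c1, hr] at c2
    exact Nat.eq_of_mul_eq_mul_left Nat.card_pos c2
  have hmem : ∀ {g : G}, g ∈ (S : Subgroup G) ⊓ cz u → g ∈ (SM : Subgroup G) := fun hg => hle hg
  set S₁ := (S : Subgroup G) ⊓ cz u with hS₁
  have hidx : (S₁.subgroupOf (SM : Subgroup G)).index = 2 := hr'
  have hmul : ∀ y ∈ (SM : Subgroup G), y ∉ S₁ → ∀ y' ∈ (SM : Subgroup G), y' ∉ S₁ → y * y' ∈ S₁ := by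
    intro y hy hyS y' hy' hyS'
    have h1 := (mul_mem_iff_of_index_two hidx (a := ⟨y, hy⟩) (b := ⟨y', hy'⟩)).2
      (iff_of_false (fun h0 => hyS (mem_subgroupOf.1 h0)) fun h0 => hyS' (mem_subgroupOf.1 h0))
    exact mem_subgroupOf.1 h1
  have hnorm : ∀ y ∈ (SM : Subgroup G), ∀ g ∈ S₁, y * g * y⁻¹ ∈ S₁ := by
    intro y hy g hg
    have h1 := (normal_of_index_eq_two hidx).conj_mem ⟨g, hle hg⟩ (mem_subgroupOf.2 hg) ⟨y, hy⟩
    exact mem_subgroupOf.1 h1
  have hV1 : zl (S : Subgroup G) P ≤ S₁ := le_inf h.lb.VT h.V_le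
  have huV := h.u_notMem hs hsu
  have hn1 := h.clsK.pp_ne hpp
  have hnz : n₁ ∈ zc (SM : Subgroup G) := (hz n₁).2 (Or.inr (Or.inl rfl))
  have hcl := h.clsK
  have hVU := h.V_le_U
  have h0 := h.ab_ne
  have hsq : ∀ v ∈ zl (S : Subgroup G) P, v * v = 1 := fun v hv => h.lb.mul_self hv
  have hp0 := h.du_pp h0.1
  -- the vectors `s₁`, `s₂`
  obtain ⟨j, hj⟩ : ∃ j, j ≠ i := ⟨1 - i, by clear * -; revert i; decide⟩
  have hsV : ∀ l, ε l (Pi.single 0 1) ∈ zl (S : Subgroup G) P := fun l => h.lb.mem l _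
  have hsc : ∀ l, ∀ g ∈ S₁, g * ε l (Pi.single 0 1) = ε l (Pi.single 0 1) * g := fun l g hg =>
    h.s_comm hs hsu hg l
  have hse : ∀ l l' x, M.e (ε l (Pi.single 0 1)) l' x = if l' = l then (if x = 0 then 0 else 1) else 0 := by
    intro l l' x
    rw [h.lb.e_eq]
    by_cases hl : l' = l
    · subst hl
      rw [Pi.single_eq_same, h.hat0, if_pos rfl]
    · rw [Pi.single_eq_of_ne hl, if_neg hl]
      rfl
  have hs1 : ε i (Pi.single 0 1) ≠ 1 := by
    intro h1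
    have h2 := hse i i a
    rw [h1, Spl.e_one, if_pos rfl, if_neg h0.1] at h2
    exact zero_ne_one h2
  by_cases hcase : ∃ k ∈ Kk n₁, ∃ w ∈ SI h.lb i, k * w ≠ w * k
  · -- (a)
    obtain ⟨k, hk, w, hw, hkw⟩ := hcase
    obtain ⟨y, hy, hyS⟩ : ∃ y ∈ Kk n₁, y ∉ S₁ := by
      by_contra hcon
      push Not at hcon
      have hkS := hcon k hk
      obtain ⟨σ, τ, ha⟩ := M.perm k (h.S_le_P hkS.1)
      have hσ : σ i = i := (h.mem_cz_iff hs hsu hkS.1 ha).1 hkS.2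
      obtain ⟨c, hc⟩ : ∃ c, τ i c ≠ c := by
        by_contra hcon2
        push Not at hcon2
        apply hkw
        obtain ⟨x, rfl⟩ := hw
        have h1 := h.lb.act k (h.S_le_P hkS.1) σ τ ha i x
        have h2 : x ∘ (τ i).symm = x := by
          funext z
          rw [Function.comp_apply, (Equiv.symm_apply_eq (τ i)).2 (hcon2 z).symm]
        rw [hσ, h2] at h1
        exact mul_inv_eq_iff_eq_mul.1 h1
      have hc0 : c ≠ 0 := fun h1 => hc (by rw [h1]; exact M.fix0 k hkS.1 σ τ ha i)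
      have h1 := h.lb.conj_du (h.S_le_P hkS.1) ha i c 0
      rw [hσ, M.fix0 k hkS.1 σ τ ha i] at h1
      rcases hcl.act hpp hk (hVU (h.lb.du_mem i c 0)) with h2 | h2
      · rw [h1] at h2
        have h3 := congrFun (congrFun (congrArg M.e h2) i) c
        rw [h.lb.e_du, h.lb.e_du, Pi.single_eq_same, Pi.single_eq_same, Pi.add_apply, Pi.add_apply,
          Pi.single_eq_same, Pi.single_eq_of_ne (Ne.symm hc), Pi.single_eq_of_ne hc0] at h3
        exact absurd h3 (by simp)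
      · rw [h1] at h2
        have h3 : n₁ = du ε i (τ i c) 0 * du ε i c 0 := by
          rw [h2, mul_assoc, h.lb.du_mul_self, mul_one]
        have h4 : n₁ ∈ SI h.lb i := by
          rw [h3]
          exact mul_mem (h.du_mem_SI _ _) (h.du_mem_SI _ _)
        rcases h.uniq hs hsu h4 (fun g hg => (mem_zc.1 hnz).2.1 g (hle hg)) with h5 | h5
        · exact hn1 h5
        · obtain ⟨z, hz1⟩ : ∃ z, z ∉ ({0, c, τ i c} : Finset (Fin (2 ^ m + 1))) := by
            by_contra hcon2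
            push Not at hcon2
            have h6 := Finset.card_le_card (fun z _ => hcon2 z :
              (Finset.univ : Finset (Fin (2 ^ m + 1))) ⊆ {0, c, τ i c})
            rw [Finset.card_univ, Fintype.card_fin] at h6
            have h7 := h6.trans (Finset.card_le_three)
            have h8 : 2 ^ 2 ≤ 2 ^ m := Nat.pow_le_pow_right (by norm_num) h.hm
            omega
          simp only [Finset.mem_insert, Finset.mem_singleton, not_or] at hz1
          obtain ⟨z1, z2, z3⟩ := hz1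
          have h6 := hse i i z
          rw [← h5, h3, M.mul _ (h.lb.du_mem i _ _) _ (h.lb.du_mem i _ _), h.lb.e_du, h.lb.e_du, if_pos rfl,
            if_neg z1, Pi.add_apply, Pi.add_apply, Pi.single_eq_same, Pi.single_eq_same, Pi.add_apply,
            Pi.add_apply, Pi.single_eq_of_ne z3, Pi.single_eq_of_ne z1, Pi.single_eq_of_ne z2] at h6
          exact absurd h6 (by simp)
    have hySM := h.K_le_SM hpp hnz hy
    -- fixed vectors
    have hzv : ∀ v ∈ zl (S : Subgroup G) P, (∀ g ∈ S₁, g * v = v * g) → y * v = v * y → v ≠ 1 →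
        v = n₁ ∨ v = n₁ * u := by
      intro v hv hvS hyv hv1
      have h1 : v ∈ zc (SM : Subgroup G) := by
        refine mem_zc.2 ⟨hle (hV1 hv), fun g hg => ?_, by rw [pow_two]; exact hsq v hv⟩
        by_cases hgS : g ∈ S₁
        · exact hvS g hgS
        · have h2 := hvS _ (hmul g hg hgS y hySM hyS)
          calc g * v = g * v * y * y⁻¹ := by group
            _ = g * y * v * y⁻¹ := by rw [mul_assoc g v y, ← hyv]; group
            _ = v * g := by rw [h2]; group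
      rcases (hz v).1 h1 with h2 | h2 | h2 | h2
      · exact absurd h2 hv1
      · exact Or.inl h2
      · exact absurd (h2 ▸ hv) huV
      · exact Or.inr h2
    have htwo : ∀ v ∈ zl (S : Subgroup G) P, (∀ g ∈ S₁, g * v = v * g) → y * v = v * y → v ≠ 1 →
        ∀ v' ∈ zl (S : Subgroup G) P, (∀ g ∈ S₁, g * v' = v' * g) → y * v' = v' * y → v' ≠ 1 → v = v' := by
      intro v hv hvS hyv hv1 v' hv' hvS' hyv' hv1'
      rcases hzv v hv hvS hyv hv1 with h1 | h1 <;> rcases hzv v' hv' hvS' hyv' hv1' with h2 | h2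
      · rw [h1, h2]
      · exfalso
        apply huV
        have h3 := mul_mem hv hv'
        rw [h1, h2, ← mul_assoc, hcl.sq n₁ (hcl.pp_mem hpp), one_mul] at h3
        exact h3
      · exfalso
        apply huV
        have h3 := mul_mem hv' hv
        rw [h1, h2, ← mul_assoc, hcl.sq n₁ (hcl.pp_mem hpp), one_mul] at h3
        exact h3
      · rw [h1, h2]
    have hact : ∀ v ∈ zl (S : Subgroup G) P, y * v = v * y ∨ y * v * y⁻¹ = n₁ * v := fun v hv =>
      (hcl.act hpp hy (hVU hv)).imp (fun h1 => mul_inv_eq_iff_eq_mul.1 h1) id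
    have hyn : y * n₁ * y⁻¹ = n₁ := by rw [mem_cz.1 (Kk_le _ hy), mul_inv_cancel_right]
    have hprod : ∀ v ∈ zl (S : Subgroup G) P, ∀ v' ∈ zl (S : Subgroup G) P, y * v * y⁻¹ = n₁ * v →
        y * v' * y⁻¹ = n₁ * v' → y * (v * v') = v * v' * y := by
      intro v hv v' hv' h1 h2
      have hc1 : n₁ * v = v * n₁ := hcl.comm _ (hcl.pp_mem hpp) _ (hVU hv)
      apply mul_inv_eq_iff_eq_mul.1
      calc y * (v * v') * y⁻¹ = y * v * y⁻¹ * (y * v' * y⁻¹) := by group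
        _ = v * (n₁ * n₁) * v' := by rw [h1, h2, hc1]; group
        _ = v * v' := by rw [hcl.sq n₁ (hcl.pp_mem hpp), mul_one]
    obtain ⟨d, hd, hd1⟩ : ∃ d ∈ cv (S : Subgroup G) P, d ≠ 1 := by
      have h1 : Nat.card (cv (S : Subgroup G) P) = 2 := h.card_D
      obtain ⟨x, hx, -⟩ := (Nat.card_eq_two_iff' (1 : cv (S : Subgroup G) P)).1 h1
      exact ⟨x, x.2, fun h2 => hx (Subtype.ext h2)⟩
    have hdV : d ∈ zl (S : Subgroup G) P := h.lb.DV hd
    have hdS : ∀ g ∈ S₁, g * d = d * g := fun g hg => h.lb.cen g (h.S_le_P hg.1) d hd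
    have hde : M.e d = 0 := (M.ker d hdV).2 hd
    have hc2 : ∀ {v v' : G}, (∀ g ∈ S₁, g * v = v * g) → (∀ g ∈ S₁, g * v' = v' * g) →
        ∀ g ∈ S₁, g * (v * v') = v * v' * g := by
      intro v v' h1 h2 g hg
      rw [← mul_assoc, h1 g hg, mul_assoc, h2 g hg, mul_assoc]
    -- the coordinates
    have hne : ∀ {v v' : G} {l : Fin 2}, M.e v l a ≠ M.e v' l a → v ≠ v' := fun h1 h2 => h1 (by rw [h2])
    have hne1 : ∀ {v : G} {l : Fin 2}, M.e v l a ≠ 0 → v ≠ 1 := fun h1 h2 => h1 (by rw [h2, Spl.e_one]; rfl)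
    have hii : M.e (ε i (Pi.single 0 1)) i a = 1 := by rw [hse, if_pos rfl, if_neg h0.1]
    have hij : M.e (ε i (Pi.single 0 1)) j a = 0 := by rw [hse, if_neg hj]
    have hji : M.e (ε j (Pi.single 0 1)) i a = 0 := by rw [hse, if_neg hj.symm]
    have hjj : M.e (ε j (Pi.single 0 1)) j a = 1 := by rw [hse, if_pos rfl, if_neg h0.1]
    have hdl : ∀ l, M.e d l a = 0 := fun l => by rw [hde]; rfl
    set s1 := ε i (Pi.single 0 1) with hs1d
    set s2 := ε j (Pi.single 0 1) with hs2d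
    have hm12 : ∀ l, M.e (s1 * s2) l a = M.e s1 l a + M.e s2 l a := fun l => by
      rw [M.mul _ (hsV i) _ (hsV j)]; rfl
    have hm1d : ∀ l, M.e (s1 * d) l a = M.e s1 l a + M.e d l a := fun l => by
      rw [M.mul _ (hsV i) _ hdV]; rfl
    have hm2d : ∀ l, M.e (s2 * d) l a = M.e s2 l a + M.e d l a := fun l => by
      rw [M.mul _ (hsV j) _ hdV]; rfl
    have hs2 : s2 ≠ 1 := hne1 (l := j) (by rw [hjj]; simp)
    rcases hact s1 (hsV i) with f1 | f1 <;> rcases hact s2 (hsV j) with f2 | f2 <;>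
      rcases hact d hdV with f3 | f3
    · exact hne (l := i) (by rw [hii, hji]; simp) (htwo s1 (hsV i) (hsc i) f1 hs1 s2 (hsV j) (hsc j) f2 hs2)
    · exact hne (l := i) (by rw [hii, hji]; simp) (htwo s1 (hsV i) (hsc i) f1 hs1 s2 (hsV j) (hsc j) f2 hs2)
    · exact hne (l := i) (by rw [hii, hdl]; simp) (htwo s1 (hsV i) (hsc i) f1 hs1 d hdV hdS f3 hd1)
    · exact hne (l := i) (by rw [hii, hm2d, hji, hdl]; simp) (htwo s1 (hsV i) (hsc i) f1 hs1 (s2 * d)
        (mul_mem (hsV j) hdV) (hc2 (hsc j) hdS) (hprod _ (hsV j) _ hdV f2 f3)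
        (hne1 (l := j) (by rw [hm2d, hjj, hdl]; simp)))
    · exact hne (l := j) (by rw [hjj, hdl]; simp) (htwo s2 (hsV j) (hsc j) f2 hs2 d hdV hdS f3 hd1)
    · exact hne (l := i) (by rw [hm1d, hii, hji, hdl]; simp) (htwo s2 (hsV j) (hsc j) f2 hs2 (s1 * d)
        (mul_mem (hsV i) hdV) (hc2 (hsc i) hdS) (hprod _ (hsV i) _ hdV f1 f3)
        (hne1 (l := i) (by rw [hm1d, hii, hdl]; simp)))
    · exact hne (l := i) (by rw [hm12, hii, hji, hdl]; simp) (htwo d hdV hdS f3 hd1 (s1 * s2)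
        (mul_mem (hsV i) (hsV j)) (hc2 (hsc i) (hsc j)) (hprod _ (hsV i) _ (hsV j) f1 f2)
        (hne1 (l := i) (by rw [hm12, hii, hji]; simp)))
    · exact hne (l := j) (by rw [hm12, hm1d, hij, hjj, hdl]; simp) (htwo (s1 * s2)
        (mul_mem (hsV i) (hsV j)) (hc2 (hsc i) (hsc j)) (hprod _ (hsV i) _ (hsV j) f1 f2)
        (hne1 (l := i) (by rw [hm12, hii, hji]; simp)) (s1 * d)
        (mul_mem (hsV i) hdV) (hc2 (hsc i) hdS) (hprod _ (hsV i) _ hdV f1 f3)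
        (hne1 (l := i) (by rw [hm1d, hii, hdl]; simp)))
  · -- (b)
    push Not at hcase
    obtain ⟨y, hy, hyS⟩ : ∃ y ∈ (SM : Subgroup G), y ∉ S₁ := by
      by_contra hcon
      push Not at hcon
      rw [relIndex_eq_one.2 hcon] at hr'
      exact absurd hr' (by norm_num)
    have hyu : y ∈ cz u := hSM hy
    obtain ⟨x0, hx0, hmove⟩ := h.exists_k0
    have hx0n : x0 * n₁ = n₁ * x0 := hcl.sym hp0 hpp (fun f hf => hcase f hf _ (h.du_mem_SI a 0)) x0 hx0
    have hx0u : x0 * u = u * x0 := mem_cz.1 (hcl.K_mem hp0 hx0)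
    have hx0s : x0 * ε i (Pi.single 0 1) ≠ ε i (Pi.single 0 1) * x0 := by
      apply hmove _ (hsV i)
      rw [hse, hse, if_pos rfl, if_neg h0.1, if_pos rfl]
      exact one_ne_zero
    have hzx : ∀ z ∈ zc (SM : Subgroup G), x0 * z = z * x0 := by
      intro z hz'
      rcases (hz z).1 hz' with h1 | h1 | h1 | h1
      · rw [h1, one_mul, mul_one]
      · rw [h1, hx0n]
      · rw [h1, hx0u]
      · rw [h1, ← mul_assoc, hx0n, mul_assoc, hx0u, mul_assoc]
    have hSM_of : ∀ v ∈ (SM : Subgroup G), v * v = 1 → (∀ g ∈ S₁, g * v = v * g) → y * v = v * y →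
        v ∈ zc (SM : Subgroup G) := by
      intro v hv hv2 hvS hyv
      refine mem_zc.2 ⟨hv, fun g hg => ?_, by rw [pow_two]; exact hv2⟩
      by_cases hgS : g ∈ S₁
      · exact hvS g hgS
      · have h2 := hvS _ (hmul g hg hgS y hy hyS)
        calc g * v = g * v * y * y⁻¹ := by group
          _ = g * y * v * y⁻¹ := by rw [mul_assoc g v y, ← hyv]; group
          _ = v * g := by rw [h2]; group
    set s1 := ε i (Pi.single 0 1) with hs1d
    have hs1S : s1 ∈ (SM : Subgroup G) := hle (hV1 (hsV i))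
    have hys : y * s1 ≠ s1 * y := fun h1 => hx0s (hzx _ (hSM_of s1 hs1S (hsq _ (hsV i)) (hsc i) h1))
    have hconj : ∀ g ∈ S₁, ∀ w ∈ SI h.lb i, g * w * g⁻¹ ∈ SI h.lb i := by
      intro g hg w hw
      obtain ⟨σ, τ, ha⟩ := M.perm g (h.S_le_P hg.1)
      exact h.SI_conj (h.S_le_P hg.1) ha ((h.mem_cz_iff hs hsu hg.1 ha).1 hg.2) hw
    have hynorm : ∀ g ∈ S₁, y⁻¹ * g * y ∈ S₁ := by
      intro g hg
      have := hnorm _ (inv_mem hy) g hg
      rwa [inv_inv] at this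
    have hS1p : IsPGroup 2 S₁ := S.isPGroup'.to_le inf_le_left
    have hint : ∀ w ∈ SI h.lb i, y⁻¹ * w * y ∈ SI h.lb i → w = 1 := by
      intro w hw hw'
      by_contra hw1
      have hWne : SI h.lb i ⊓ ChoiceBase.cj y (SI h.lb i) ≠ ⊥ := by
        intro h1
        have h2 : w ∈ SI h.lb i ⊓ ChoiceBase.cj y (SI h.lb i) := ⟨hw, ChoiceBase.mem_cj.2 hw'⟩
        rw [h1, mem_bot] at h2
        exact hw1 h2
      obtain ⟨w0, hw0, hw01, hw0S⟩ := exists_fixed_el hS1p hWne (fun v hv => hsq v (h.SI_le hv.1)) (by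
        rintro g hg v ⟨hv, hv'⟩
        refine ⟨hconj g hg v hv, ChoiceBase.mem_cj.2 ?_⟩
        have h2 := hconj _ (hynorm g hg) _ (ChoiceBase.mem_cj.1 hv')
        have e : y⁻¹ * g * y * (y⁻¹ * v * y) * (y⁻¹ * g * y)⁻¹ = y⁻¹ * (g * v * g⁻¹) * y := by group
        rwa [e] at h2)
      have e1 : w0 = s1 := (h.uniq hs hsu hw0.1 hw0S).resolve_left hw01
      have e2 : y⁻¹ * w0 * y = s1 := by
        refine (h.uniq hs hsu (ChoiceBase.mem_cj.1 hw0.2) fun g hg => ?_).resolve_left fun h1 => hw01 ?_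
        · have h2 := hw0S _ (hnorm y hy g hg)
          calc g * (y⁻¹ * w0 * y) = y⁻¹ * (y * g * y⁻¹ * w0) * y := by group
            _ = y⁻¹ * (w0 * (y * g * y⁻¹)) * y := by rw [h2]
            _ = y⁻¹ * w0 * y * g := by group
        · calc w0 = y * (y⁻¹ * w0 * y) * y⁻¹ := by group
            _ = 1 := by rw [h1]; group
      apply hys
      rw [e1] at e2
      calc y * s1 = y * (y⁻¹ * s1 * y) := by rw [e2]
        _ = s1 * y := by group
    -- `K_{a0}` centralises the conjugates under `y` of `n ^ S₁`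
    have hxg : ∀ g ∈ S₁, x0 * (y * (g * du ε i a b * g⁻¹) * y⁻¹) = y * (g * du ε i a b * g⁻¹) * y⁻¹ * x0 := by
      intro g hg
      have hgu : g ∈ cz u := hg.2
      have hpp' : PPc (cz u) (du ε i a b) (y * (g * du ε i a b * g⁻¹) * y⁻¹) :=
        ClsK.pp_conj hyu (ClsK.pp_conj hgu (ClsK.pp_self _ _))
      refine hcl.sym hp0 hpp' (fun f hf => ?_) x0 hx0
      -- `f ∈ S₁`
      have e1 : (y * g)⁻¹ * (y * (g * du ε i a b * g⁻¹) * y⁻¹) * (y * g)⁻¹⁻¹ = du ε i a b := by group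
      have hf' := conj_Kk e1 hf
      have hfS : (y * g)⁻¹ * f * (y * g)⁻¹⁻¹ ∈ S₁ :=
        ⟨h.QS (Kk_le_o2 h.c2 h.nn h.n_ne hf'), h.cen_n (Kk_le _ hf')⟩
      have hfS' : f ∈ S₁ := by
        have h1 := hnorm _ (mul_mem hy (hle hg)) _ hfS
        have e : y * g * ((y * g)⁻¹ * f * (y * g)⁻¹⁻¹) * (y * g)⁻¹ = f := by group
        rwa [e] at h1
      rcases hcl.act hpp' hf (hcl.pp_mem hp0) with h1 | h1
      · exact mul_inv_eq_iff_eq_mul.1 h1
      · exfalso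
        apply hcl.pp_ne hpp'
        apply hint
        · have h2 : y * (g * du ε i a b * g⁻¹) * y⁻¹ = f * du ε i a 0 * f⁻¹ * (du ε i a 0)⁻¹ := by
            rw [h1, mul_inv_cancel_right]
          rw [h2]
          exact mul_mem (hconj f hfS' _ (h.du_mem_SI a 0)) (inv_mem (h.du_mem_SI a 0))
        · have e : y⁻¹ * (y * (g * du ε i a b * g⁻¹) * y⁻¹) * y = g * du ε i a b * g⁻¹ := by group
          rw [e]
          exact hconj g hg _ (h.du_mem_SI a b)
    -- `s₁` is a product of elements of `n ^ S₁`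
    have hW : ∀ w ∈ closure {w : G | ∃ g ∈ S₁, w = g * du ε i a b * g⁻¹}, w ∈ SI h.lb i := by
      intro w hw
      induction hw using closure_induction with
      | mem w hw =>
        obtain ⟨g, hg, rfl⟩ := hw
        exact hconj g hg _ (h.du_mem_SI a b)
      | one => exact one_mem _
      | mul w w' _ _ h1 h2 => exact mul_mem h1 h2
      | inv w _ h1 => exact inv_mem h1
    have hnW : du ε i a b ∈ closure {w : G | ∃ g ∈ S₁, w = g * du ε i a b * g⁻¹} :=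
      subset_closure ⟨1, one_mem _, by group⟩
    obtain ⟨w0, hw0, hw01, hw0S⟩ := exists_fixed_el (N := closure {w : G | ∃ g ∈ S₁, w = g * du ε i a b * g⁻¹})
      hS1p (fun h1 => h.n_ne (by rw [h1, mem_bot] at hnW; exact hnW)) (fun v hv => hsq v (h.SI_le (hW v hv))) (by
        intro g hg v hv
        induction hv using closure_induction with
        | mem v hv =>
          obtain ⟨g', hg', rfl⟩ := hv
          exact subset_closure ⟨g * g', mul_mem hg hg', by group⟩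
        | one => rw [mul_one, mul_inv_cancel]; exact one_mem _
        | mul v v' _ _ h1 h2 =>
          have e : g * (v * v') * g⁻¹ = g * v * g⁻¹ * (g * v' * g⁻¹) := by group
          rw [e]
          exact mul_mem h1 h2
        | inv v _ h1 =>
          have e : g * v⁻¹ * g⁻¹ = (g * v * g⁻¹)⁻¹ := by group
          rw [e]
          exact inv_mem h1)
    have e1 : w0 = s1 := (h.uniq hs hsu (hW _ hw0) hw0S).resolve_left hw01
    rw [e1] at hw0
    have hxs : ∀ w ∈ closure {w : G | ∃ g ∈ S₁, w = g * du ε i a b * g⁻¹}, x0 * (y * w * y⁻¹) = y * w * y⁻¹ * x0 := by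
      intro w hw
      induction hw using closure_induction with
      | mem w hw =>
        obtain ⟨g, hg, rfl⟩ := hw
        exact hxg g hg
      | one =>
        have e : y * 1 * y⁻¹ = 1 := by group
        rw [e, one_mul, mul_one]
      | mul w w' _ _ h1 h2 =>
        calc x0 * (y * (w * w') * y⁻¹) = x0 * (y * w * y⁻¹) * (y * w' * y⁻¹) := by group
          _ = y * w * y⁻¹ * (x0 * (y * w' * y⁻¹)) := by rw [h1]; group
          _ = y * (w * w') * y⁻¹ * x0 := by rw [h2]; group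
      | inv w _ h1 =>
        have e : y * w⁻¹ * y⁻¹ = (y * w * y⁻¹)⁻¹ := by group
        rw [e]
        exact ((show Commute x0 (y * w * y⁻¹) from h1).inv_right).eq
    have hx1 := hxs _ hw0
    -- `s₁ s₁ ^ y`
    have hcc : s1 * (y * s1 * y⁻¹) = y * s1 * y⁻¹ * s1 :=
      hcl.comm _ (hVU (hsV i)) _ (hcl.nor y hyu _ (hVU (hsV i)))
    have hss := hsq _ (hsV i)
    have hzz : s1 * (y * s1 * y⁻¹) ∈ zc (SM : Subgroup G) := by
      refine hSM_of _ (mul_mem hs1S (mul_mem (mul_mem hy hs1S) (inv_mem hy))) ?_ (fun g hg => ?_) ?_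
      · calc s1 * (y * s1 * y⁻¹) * (s1 * (y * s1 * y⁻¹)) = s1 * (y * s1 * y⁻¹ * s1) * (y * s1 * y⁻¹) := by group
          _ = s1 * s1 * (y * (s1 * s1) * y⁻¹) := by rw [← hcc]; group
          _ = 1 := by rw [hss]; group
      · have h2 : y⁻¹ * g * y * s1 = s1 * (y⁻¹ * g * y) := hsc i _ (hynorm g hg)
        have h2' : g * s1 = s1 * g := hsc i g hg
        calc g * (s1 * (y * s1 * y⁻¹)) = g * s1 * (y * s1 * y⁻¹) := by group
          _ = s1 * (y * (y⁻¹ * g * y * s1) * y⁻¹) := by rw [h2']; group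
          _ = s1 * (y * (s1 * (y⁻¹ * g * y)) * y⁻¹) := by rw [h2]
          _ = s1 * (y * s1 * y⁻¹) * g := by group
      · have h2 : y * y * s1 = s1 * (y * y) := hsc i _ (hmul y hy hyS y hy hyS)
        calc y * (s1 * (y * s1 * y⁻¹)) = y * s1 * y⁻¹ * (y * y * s1) * y⁻¹ := by group
          _ = y * s1 * y⁻¹ * s1 * y := by rw [h2]; group
          _ = s1 * (y * s1 * y⁻¹) * y := by rw [hcc]
    have h3 := hzx _ hzz
    apply hx0s
    refine mul_right_cancel (b := y * s1 * y⁻¹) ?_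
    calc x0 * s1 * (y * s1 * y⁻¹) = x0 * (s1 * (y * s1 * y⁻¹)) := by group
      _ = s1 * (y * s1 * y⁻¹ * x0) := by rw [h3]; group
      _ = s1 * x0 * (y * s1 * y⁻¹) := by rw [← hx1]; group

end nc

/-- **The end** of #20133 -/
theorem false : False := by
  by_cases hs : (S : Subgroup G) ≤ cz u
  · exact h.case_comm hs
  · obtain ⟨s, hs', hsu⟩ := SetLike.not_le_iff_exists.1 hs
    exact h.case_nc hs' hsu

end EndS

end Cfsg.Agent.Omega.IId.SwCv.NatM
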