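import Cfsg.Agent.Omega.MixOne.SideW
import Cfsg.Agent.Omega.Mix.Defs

/-!
# A four-group as a side of TEXT MIX (project OMEGA, II.d, SwCv, natural partner; helper639)

`FourL V r g` : `V = {1, r 0, r 1, r 2}` is a four-group, `g i ∈ N(V)` maps `r 0` to `r i`.

`LnD V U Z r g` : moreover `r 0 ∈ U`, `V ≤ Z`, the groups `W_U = LL U ⟨r 0⟩ ⟨r 0⟩`, `W_Z = LL Z ⟨r 0⟩ ⟨r 0⟩` are
elementary abelian, `[W_Z, W_U] ≤ ⟨r 0⟩` and `W_U` does not centralise `V`.

`LnD.side` : `SideW V (pts r) (fun i => LL U (pts r 0) (pts r i)) (fun i => LL Z (pts r 0) (pts r i))`.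
-/

set_option autoImplicit false

namespace Cfsg.Agent.Omega.IId.SwCv.NatM

open Subgroup Cfsg.Agent.Omega.BTwo Cfsg.Agent.Omega.Mix Cfsg.Agent.Omega.MixOne

variable {G : Type*} [Group G]

/-- the points of a four-group -/
def pts (r : Fin 3 → G) (i : Fin 3) : Subgroup G := zpowers (r i)

/-- `V = {1, r 0, r 1, r 2}`, `g i` maps `r 0` to `r i` -/
structure FourL (V : Subgroup G) (r g : Fin 3 → G) : Prop where
  sq : ∀ i, r i * r i = 1
  ne : ∀ i, r i ≠ 1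
  mul : ∀ i j k, i ≠ j → j ≠ k → i ≠ k → r i * r j = r k
  mem : ∀ v, v ∈ V ↔ v = 1 ∨ ∃ i, v = r i
  norm : ∀ i, g i ∈ normalizer (V : Set G)
  act : ∀ i, g i * r 0 * (g i)⁻¹ = r i

namespace FourL

variable {V : Subgroup G} {r g : Fin 3 → G} (f : FourL V r g)
include f

theorem r_mem (i : Fin 3) : r i ∈ V := (f.mem _).2 (Or.inr ⟨i, rfl⟩)

theorem inj {i j : Fin 3} (h : r i = r j) : i = j := by
  by_contra hne
  have key : ∀ i j : Fin 3, ∃ k : Fin 3, k ≠ i ∧ k ≠ j := by decide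
  obtain ⟨k, hki, hkj⟩ := key i j
  have h1 := f.mul i j k hne (Ne.symm hkj) (Ne.symm hki)
  rw [h, f.sq j] at h1
  exact f.ne k h1.symm

theorem mem_pts {i : Fin 3} {x : G} : x ∈ pts r i ↔ x = 1 ∨ x = r i := by
  rw [pts, mem_zpowers_iff]
  constructor
  · rintro ⟨n, rfl⟩
    have h2 : (r i) ^ (2 : ℤ) = 1 := by rw [zpow_two]; exact f.sq i
    rcases Int.even_or_odd' n with ⟨m, h | h⟩
    · left
      rw [h, zpow_mul, h2, one_zpow]
    · right
      rw [h, zpow_add, zpow_mul, h2, one_zpow, one_mul, zpow_one]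
  · rintro (rfl | rfl)
    · exact ⟨0, zpow_zero _⟩
    · exact ⟨1, zpow_one _⟩

omit f in
theorem r_mem_pts (r : Fin 3 → G) (i : Fin 3) : r i ∈ pts r i := mem_zpowers _

omit f in
theorem cj_pts {x : G} {i j : Fin 3} (h : x * r i * x⁻¹ = r j) : cj x (pts r i) = pts r j := by
  rw [pts, pts, cj, MonoidHom.map_zpowers]
  exact congrArg zpowers h

theorem conj_of_cj {x : G} {i j : Fin 3} (h : cj x (pts r i) = pts r j) : x * r i * x⁻¹ = r j := by
  have h1 : x * r i * x⁻¹ ∈ pts r j := by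
    rw [← h]
    exact conj_mem_cj (r_mem_pts r i)
  rcases f.mem_pts.1 h1 with h2 | h2
  · exfalso
    apply f.ne i
    rwa [mul_inv_eq_one, mul_eq_left] at h2
  · exact h2

theorem pts_inf {i j : Fin 3} (hij : i ≠ j) : pts r i ⊓ pts r j = ⊥ := by
  rw [eq_bot_iff]
  rintro x ⟨h1, h2⟩
  rw [mem_bot]
  rcases f.mem_pts.1 h1 with h | h
  · exact h
  · rcases f.mem_pts.1 h2 with h3 | h3
    · exact h3
    · exact absurd (f.inj (h.symm.trans h3)) hij

theorem pts_injective : Function.Injective (pts r) := by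
  intro i j h
  by_contra hij
  have h1 := f.pts_inf hij
  rw [h, inf_idem] at h1
  have h2 := r_mem_pts r j
  rw [h1, mem_bot] at h2
  exact f.ne j h2

/-- an element of `N(V)` permutes the points -/
theorem perm {x : G} (hx : x ∈ normalizer (V : Set G)) (i : Fin 3) : ∃ j, cj x (pts r i) = pts r j := by
  have h1 := (mem_normalizer_iff.1 hx _).1 (f.r_mem i)
  rcases (f.mem _).1 h1 with h2 | ⟨j, h2⟩
  · exfalso
    apply f.ne i
    rwa [mul_inv_eq_one, mul_eq_left] at h2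
  · exact ⟨j, cj_pts h2⟩

theorem le_ST : normalizer (V : Set G) ≤ ST V (pts r) := fun _ hx =>
  (mem_ST f.pts_injective).2 ⟨hx, f.perm hx⟩

theorem ST_eq : ST V (pts r) = normalizer (V : Set G) := le_antisymm (ST_le _ _) f.le_ST

theorem cj_zero (i : Fin 3) : cj (g i) (pts r 0) = pts r i := cj_pts (f.act i)

theorem comm {v w : G} (hv : v ∈ V) (hw : w ∈ V) : v * w = w * v := by
  have hs : ∀ x ∈ V, x * x = 1 := by
    intro x hx
    rcases (f.mem x).1 hx with rfl | ⟨i, rfl⟩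
    · exact mul_one 1
    · exact f.sq i
  have h1 := hs _ (mul_mem hv hw)
  have hv1 : v⁻¹ = v := inv_eq_of_mul_eq_one_left (hs v hv)
  have hw1 : w⁻¹ = w := inv_eq_of_mul_eq_one_left (hs w hw)
  have h2 : (v * w)⁻¹ = v * w := inv_eq_of_mul_eq_one_left h1
  rw [mul_inv_rev, hv1, hw1] at h2
  exact h2.symm

/-- `{v, r j}` for `i ≠ j` : an element which commutes with `r i` and `r j` centralises `V` -/
theorem comm_of_two {x : G} {i j : Fin 3} (hij : i ≠ j) (hi : x * r i = r i * x) (hj : x * r j = r j * x) :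
    ∀ v ∈ V, x * v = v * x := by
  intro v hv
  rcases (f.mem v).1 hv with rfl | ⟨k, rfl⟩
  · rw [mul_one, one_mul]
  · by_cases hki : k = i
    · rw [hki]; exact hi
    by_cases hkj : k = j
    · rw [hkj]; exact hj
    rw [← f.mul i j k hij (Ne.symm hkj) (Ne.symm hki)]
    calc x * (r i * r j) = x * r i * r j := by group
      _ = r i * (x * r j) := by rw [hi]; group
      _ = r i * r j * x := by rw [hj]; group

end FourL

/-- the data for `SideW` at a four-group -/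
structure LnD (V U Z : Subgroup G) (r g : Fin 3 → G) : Prop extends FourL V r g where
  V_Z : V ≤ Z
  r_U : r 0 ∈ U
  U_comm : ∀ a ∈ LL U (pts r 0) (pts r 0), ∀ b ∈ LL U (pts r 0) (pts r 0), a * b = b * a
  Z_comm : ∀ a ∈ LL Z (pts r 0) (pts r 0), ∀ b ∈ LL Z (pts r 0) (pts r 0), a * b = b * a
  U_sq : ∀ a ∈ U, a * a = 1
  Z_sq : ∀ a ∈ Z, a * a = 1
  ZU : ∀ c ∈ LL Z (pts r 0) (pts r 0), ∀ b ∈ LL U (pts r 0) (pts r 0), c * b * c⁻¹ * b⁻¹ ∈ pts r 0
  mv : ∃ b ∈ LL U (pts r 0) (pts r 0), ∃ v ∈ V, b * v ≠ v * b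

/-- the exponent of an abelian group generated by conjugates of `U` -/
theorem LL_sq {U R : Subgroup G} (hc : ∀ a ∈ LL U R R, ∀ b ∈ LL U R R, a * b = b * a) (hs : ∀ a ∈ U, a * a = 1) :
    ∀ a ∈ LL U R R, a * a = 1 := by
  let E : Subgroup G :=
    { carrier := {a | a ∈ LL U R R ∧ a * a = 1}
      one_mem' := ⟨one_mem _, mul_one 1⟩
      mul_mem' := by
        rintro a b ⟨ha, ha2⟩ ⟨hb, hb2⟩
        refine ⟨mul_mem ha hb, ?_⟩
        calc a * b * (a * b) = a * (b * a) * b := by group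
          _ = (a * a) * (b * b) := by rw [← hc a ha b hb]; group
          _ = 1 := by rw [ha2, hb2, mul_one]
      inv_mem' := by
        rintro a ⟨ha, ha2⟩
        refine ⟨inv_mem ha, ?_⟩
        rw [← mul_inv_rev, ha2, inv_one] }
  have h1 : LL U R R ≤ E := by
    refine LL_le fun g hg => ?_
    rintro _ ⟨u, hu, rfl⟩
    refine ⟨cj_le_LL hg (conj_mem_cj hu), ?_⟩
    change g * u * g⁻¹ * (g * u * g⁻¹) = 1
    calc g * u * g⁻¹ * (g * u * g⁻¹) = g * (u * u) * g⁻¹ := by group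
      _ = 1 := by rw [hs u hu]; group
  exact fun a ha => (h1 ha).2

namespace LnD

variable {V U Z : Subgroup G} {r g : Fin 3 → G} (d : LnD V U Z r g)
include d

/-- `W_U` at the point `i` -/
theorem LL_eq (X : Subgroup G) (i : Fin 3) : LL X (pts r 0) (pts r i) = cj (g i) (LL X (pts r 0) (pts r 0)) :=
  (cj_LL (d.toFourL.cj_zero i)).symm

theorem mem_LL {X : Subgroup G} {i : Fin 3} {x : G} :
    x ∈ LL X (pts r 0) (pts r i) ↔ (g i)⁻¹ * x * g i ∈ LL X (pts r 0) (pts r 0) := by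
  rw [d.LL_eq X i, mem_cj]

theorem pts_eq (i : Fin 3) {x : G} : x ∈ pts r i ↔ (g i)⁻¹ * x * g i ∈ pts r 0 := by
  rw [← d.toFourL.cj_zero i, mem_cj]

/-- transport of `∀ a b, a b = b a` -/
theorem comm_at {X Y : Subgroup G} (h : ∀ a ∈ LL X (pts r 0) (pts r 0), ∀ b ∈ LL Y (pts r 0) (pts r 0), a * b = b * a)
    (i : Fin 3) : ∀ a ∈ LL X (pts r 0) (pts r i), ∀ b ∈ LL Y (pts r 0) (pts r i), a * b = b * a := by
  intro a ha b hb
  have h1 := h _ (d.mem_LL.1 ha) _ (d.mem_LL.1 hb)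
  have h2 : g i * ((g i)⁻¹ * a * g i * ((g i)⁻¹ * b * g i)) * (g i)⁻¹ =
      g i * ((g i)⁻¹ * b * g i * ((g i)⁻¹ * a * g i)) * (g i)⁻¹ := by rw [h1]
  calc a * b = g i * ((g i)⁻¹ * a * g i * ((g i)⁻¹ * b * g i)) * (g i)⁻¹ := by group
    _ = _ := h2
    _ = b * a := by group

theorem sq_at {X : Subgroup G} (h : ∀ a ∈ LL X (pts r 0) (pts r 0), a * a = 1) (i : Fin 3) :
    ∀ a ∈ LL X (pts r 0) (pts r i), a * a = 1 := by
  intro a ha
  have h1 := h _ (d.mem_LL.1 ha)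
  calc a * a = g i * ((g i)⁻¹ * a * g i * ((g i)⁻¹ * a * g i)) * (g i)⁻¹ := by group
    _ = 1 := by rw [h1]; group

theorem ZU_at (i : Fin 3) : ∀ c ∈ LL Z (pts r 0) (pts r i), ∀ b ∈ LL U (pts r 0) (pts r i),
    c * b * c⁻¹ * b⁻¹ ∈ pts r i := by
  intro c hc b hb
  rw [d.pts_eq]
  have h1 := d.ZU _ (d.mem_LL.1 hc) _ (d.mem_LL.1 hb)
  have e : (g i)⁻¹ * c * g i * ((g i)⁻¹ * b * g i) * ((g i)⁻¹ * c * g i)⁻¹ * ((g i)⁻¹ * b * g i)⁻¹ =
      (g i)⁻¹ * (c * b * c⁻¹ * b⁻¹) * g i := by group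
  rwa [e] at h1

theorem V_LL (i : Fin 3) : V ≤ LL Z (pts r 0) (pts r i) := by
  intro v hv
  rw [d.mem_LL]
  refine V_le_LL _ _ (d.V_Z ?_)
  have := (mem_normalizer_iff.1 (inv_mem (d.norm i)) v).1 hv
  rwa [inv_inv] at this

theorem pts_LL (i : Fin 3) : pts r i ≤ LL U (pts r 0) (pts r i) := by
  intro x hx
  rw [d.mem_LL]
  refine V_le_LL _ _ ?_
  rcases d.toFourL.mem_pts.1 ((d.pts_eq i).1 hx) with h | h
  · rw [h]; exact one_mem _
  · rw [h]; exact d.r_U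

theorem LL_norm (i : Fin 3) : LL U (pts r 0) (pts r i) ≤ normalizer (V : Set G) := by
  have key : ∀ b ∈ LL U (pts r 0) (pts r i), ∀ v ∈ V, b * v * b⁻¹ ∈ V := by
    intro b hb v hv
    have h1 := d.ZU_at i v (d.V_LL i hv) b hb
    have h2 : v * b * v⁻¹ * b⁻¹ ∈ V := by
      rcases d.toFourL.mem_pts.1 h1 with h | h
      · rw [h]; exact one_mem _
      · rw [h]; exact d.toFourL.r_mem i
    have e : b * v * b⁻¹ = (v * b * v⁻¹ * b⁻¹)⁻¹ * v := by group
    rw [e]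
    exact mul_mem (inv_mem h2) hv
  intro b hb
  rw [mem_normalizer_iff]
  intro v
  refine ⟨key b hb v, fun h => ?_⟩
  have h1 := key b⁻¹ (inv_mem hb) _ h
  have e : b⁻¹ * (b * v * b⁻¹) * b⁻¹⁻¹ = v := by group
  rwa [e] at h1

/-- the action of `b ∈ W_U(i)` on `V` -/
theorem act_cases (i : Fin 3) {b : G} (hb : b ∈ LL U (pts r 0) (pts r i)) {v : G} (hv : v ∈ V) :
    b * v * b⁻¹ = v ∨ b * v * b⁻¹ = v * r i := by
  have h1 := inv_mem (d.ZU_at i v (d.V_LL i hv) b hb)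
  have e : b * v * b⁻¹ = (v * b * v⁻¹ * b⁻¹)⁻¹ * v := by group
  rcases d.toFourL.mem_pts.1 h1 with h | h
  · left
    rw [e, h, one_mul]
  · right
    rw [e, h, d.toFourL.comm (d.toFourL.r_mem i) hv]

theorem comm_r (i : Fin 3) {b : G} (hb : b ∈ LL U (pts r 0) (pts r i)) : b * r i = r i * b :=
  d.comm_at d.U_comm i b hb _ (d.pts_LL i (FourL.r_mem_pts r i))

/-- an element which moves one `r j` moves all of them -/
theorem move {i j k : Fin 3} (hj : j ≠ i) (hk : k ≠ i) (hjk : j ≠ k) {b : G} (hb : b ∈ LL U (pts r 0) (pts r i))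
    (hne : ¬ ∀ v ∈ V, b * v = v * b) : b * r j * b⁻¹ = r k := by
  rcases d.act_cases i hb (d.toFourL.r_mem j) with h | h
  · exfalso
    apply hne
    refine d.toFourL.comm_of_two hj.symm (d.comm_r i hb) ?_
    exact mul_inv_eq_iff_eq_mul.1 h
  · rw [h]
    exact d.mul j i k hj hk.symm hjk

theorem exists_mv (i : Fin 3) : ∃ b ∈ LL U (pts r 0) (pts r i), ¬ ∀ v ∈ V, b * v = v * b := by
  obtain ⟨b, hb, v, hv, hne⟩ := d.mv
  refine ⟨g i * b * (g i)⁻¹, ?_, fun h => hne ?_⟩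
  · rw [d.LL_eq]
    exact conj_mem_cj hb
  · have h1 := h (g i * v * (g i)⁻¹) ((mem_normalizer_iff.1 (d.norm i) v).1 hv)
    have h2 : (g i)⁻¹ * (g i * b * (g i)⁻¹ * (g i * v * (g i)⁻¹)) * g i =
        (g i)⁻¹ * (g i * v * (g i)⁻¹ * (g i * b * (g i)⁻¹)) * g i := by rw [h1]
    calc b * v = (g i)⁻¹ * (g i * b * (g i)⁻¹ * (g i * v * (g i)⁻¹)) * g i := by group
      _ = _ := h2
      _ = v * b := by group

/-- **A four-group is a side.** -/
theorem side : SideW V (pts r) (fun i => LL U (pts r 0) (pts r i)) (fun i => LL Z (pts r 0) (pts r i)) where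
  third := by decide
  V_C := d.V_LL
  R_V i := by
    intro x hx
    rcases d.toFourL.mem_pts.1 hx with h | h
    · rw [h]; exact one_mem _
    · rw [h]; exact d.toFourL.r_mem i
  R_B := d.pts_LL
  R_ne i h := d.ne i (mem_bot.1 (h ▸ FourL.r_mem_pts r i))
  R_inf i j h := d.toFourL.pts_inf h
  B_comm := d.comm_at d.U_comm
  B_sq := d.sq_at (LL_sq d.U_comm d.U_sq)
  C_comm := d.comm_at d.Z_comm
  C_sq := d.sq_at (LL_sq d.Z_comm d.Z_sq)
  CB := d.ZU_at
  B_NV := d.LL_norm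
  nB i := normalizer_le_LL _ _ _
  nC i := normalizer_le_LL _ _ _
  perm m x hx i := d.toFourL.perm (d.LL_norm m hx) i
  cB _ _ _ h := cj_LL h
  cC _ _ _ h := cj_LL h
  trans i j k hj hk := by
    by_cases hjk : j = k
    · subst hjk
      exact ⟨1, one_mem _, cj_one _⟩
    obtain ⟨b, hb, hne⟩ := d.exists_mv i
    exact ⟨b, hb, FourL.cj_pts (d.move hj hk hjk hb hne)⟩
  free i j hj b hb h := by
    have h1 := d.toFourL.conj_of_cj h
    exact d.toFourL.comm_of_two hj.symm (d.comm_r i hb) (mul_inv_eq_iff_eq_mul.1 h1)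
  VB i v hv h := by
    rw [d.toFourL.mem_pts]
    rcases (d.mem v).1 hv with h1 | ⟨j, rfl⟩
    · exact Or.inl h1
    · right
      by_contra hne
      have hji : j ≠ i := fun h0 => hne (by rw [h0])
      obtain ⟨b, hb, hbn⟩ := d.exists_mv i
      apply hbn
      exact d.toFourL.comm_of_two hji.symm (d.comm_r i hb) (h b hb)

end LnD

end Cfsg.Agent.Omega.IId.SwCv.NatM
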