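import Cfsg.Agent.Omega.MixOne.SideW

/-!
# The side `SideW` of a four-group `V = {1, r 0, r 1, r 2}` (`q = 2`) (helper48 #20133 (1))

`FourD V B C r g` : `B`, `C` elementary abelian, normalised by `C_G(r 0)`, `V ≤ C`, `r 0 ∈ B`, `[C, B] ≤ ⟨r 0⟩`, some
element of `B` interchanges `r 1` and `r 2`, `g i ∈ N(V)` maps `r 0` to `r i`.  Then `SideW` holds for
`R i = ⟨r i⟩`, `B i = B^{g i}`, `C i = C^{g i}`.
-/

set_option autoImplicit false

namespace Cfsg.Agent.Omega.IId.SwCv.NatM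

open Subgroup Cfsg.Agent.Omega.BTwo Cfsg.Agent.Omega.Mix Cfsg.Agent.Omega.MixOne

variable {G : Type*} [Group G]

/-- a four-group with points `r i`, and normal subgroups `B`, `C` of `C_G(r 0)` -/
structure FourD (V B C : Subgroup G) (r g : Fin 3 → G) : Prop where
  g0 : g 0 = 1
  r1 : ∀ i, r i ≠ 1
  sq : ∀ i, r i * r i = 1
  mem : ∀ v, v ∈ V ↔ v = 1 ∨ ∃ i, v = r i
  mul : ∀ i j k, i ≠ j → j ≠ k → i ≠ k → r i * r j = r k
  gr : ∀ i, g i * r 0 * (g i)⁻¹ = r i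
  gV : ∀ i, g i ∈ normalizer (V : Set G)
  VC : V ≤ C
  rB : r 0 ∈ B
  Bc : ∀ a ∈ B, ∀ b ∈ B, a * b = b * a
  Bs : ∀ a ∈ B, a * a = 1
  Cc : ∀ a ∈ C, ∀ b ∈ C, a * b = b * a
  Cs : ∀ a ∈ C, a * a = 1
  CB : ∀ c ∈ C, ∀ b ∈ B, c * b * c⁻¹ * b⁻¹ = 1 ∨ c * b * c⁻¹ * b⁻¹ = r 0
  nB : ∀ h, h * r 0 = r 0 * h → ∀ b ∈ B, h * b * h⁻¹ ∈ B
  nC : ∀ h, h * r 0 = r 0 * h → ∀ c ∈ C, h * c * h⁻¹ ∈ C
  mov : ∃ b ∈ B, b * r 1 * b⁻¹ = r 2

theorem mem_zp {r : G} (h2 : r * r = 1) {x : G} : x ∈ zpowers r ↔ x = 1 ∨ x = r := by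
  constructor
  · rintro ⟨n, rfl⟩
    change r ^ n = 1 ∨ r ^ n = r
    have h3 : r ^ (2 : ℤ) = 1 := by rw [zpow_two]; exact h2
    rcases Int.even_or_odd' n with ⟨c, rfl | rfl⟩
    · left; rw [zpow_mul, h3, one_zpow]
    · right; rw [zpow_add, zpow_mul, h3, one_zpow, one_mul, zpow_one]
  · rintro (rfl | rfl)
    · exact one_mem _
    · exact mem_zpowers _

theorem cj_zp (g r : G) : cj g (zpowers r) = zpowers (g * r * g⁻¹) := by
  rw [cj, MonoidHom.map_zpowers]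
  rfl

theorem zp_inj {r s : G} (_hr : r * r = 1) (hs : s * s = 1) (hr1 : r ≠ 1) (h : zpowers r = zpowers s) : r = s := by
  have h1 : r ∈ zpowers s := h ▸ mem_zpowers r
  rcases (mem_zp hs).1 h1 with h2 | h2
  · exact absurd h2 hr1
  · exact h2

namespace FourD

variable {V B C : Subgroup G} {r g : Fin 3 → G} (f : FourD V B C r g)
include f

omit f in
theorem third (i j : Fin 3) : ∃ k : Fin 3, k ≠ i ∧ k ≠ j := by
  revert i j; decide

theorem inj {i j : Fin 3} (h : r i = r j) : i = j := by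
  by_contra hne
  obtain ⟨k, hk1, hk2⟩ := third i j
  have h1 := f.mul i j k hne (Ne.symm hk2) (Ne.symm hk1)
  rw [h, f.sq] at h1
  exact f.r1 k h1.symm

theorem memr (i : Fin 3) : r i ∈ V := (f.mem _).2 (Or.inr ⟨i, rfl⟩)

/-- elements of `N(V)` permute the points -/
theorem perm {x : G} (hx : x ∈ normalizer (V : Set G)) (i : Fin 3) : ∃ j, x * r i * x⁻¹ = r j := by
  have h1 : x * r i * x⁻¹ ∈ V := (mem_normalizer_iff.1 hx _).1 (f.memr i)
  rcases (f.mem _).1 h1 with h2 | h2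
  · exfalso
    rw [mul_inv_eq_one, mul_eq_left] at h2
    exact f.r1 i h2
  · exact h2

omit f in
theorem eq_of {x y : G} {i j : Fin 3} (hx : x * r 0 * x⁻¹ = r i) (hy : y * r i * y⁻¹ = r j) {z : G}
    (hz : z * r 0 * z⁻¹ = r j) : (z⁻¹ * y * x) * r 0 = r 0 * (z⁻¹ * y * x) := by
  have h1 : (y * x) * r 0 * (y * x)⁻¹ = r j := by
    calc (y * x) * r 0 * (y * x)⁻¹ = y * (x * r 0 * x⁻¹) * y⁻¹ := by group
      _ = r j := by rw [hx, hy]
  calc (z⁻¹ * y * x) * r 0 = z⁻¹ * ((y * x) * r 0 * (y * x)⁻¹) * (y * x) := by group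
    _ = z⁻¹ * (z * r 0 * z⁻¹) * (y * x) := by rw [h1, hz]
    _ = r 0 * (z⁻¹ * y * x) := by group

omit f in
theorem cjA {A : Subgroup G} {r₀ : G} (nA : ∀ h, h * r₀ = r₀ * h → ∀ b ∈ A, h * b * h⁻¹ ∈ A) {x : G}
    (hx : x * r₀ = r₀ * x) : cj x A = A := by
  apply le_antisymm
  · rintro _ ⟨a, ha, rfl⟩
    exact nA x hx a ha
  · intro a ha
    have hx' : x⁻¹ * r₀ = r₀ * x⁻¹ := by
      calc x⁻¹ * r₀ = x⁻¹ * (r₀ * x) * x⁻¹ := by group
        _ = x⁻¹ * (x * r₀) * x⁻¹ := by rw [hx]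
        _ = r₀ * x⁻¹ := by group
    refine ⟨x⁻¹ * a * x, ?_, ?_⟩
    · have := nA x⁻¹ hx' a ha
      rwa [inv_inv] at this
    · change x * (x⁻¹ * a * x) * x⁻¹ = a
      group

theorem cA {A : Subgroup G} (nA : ∀ h, h * r 0 = r 0 * h → ∀ b ∈ A, h * b * h⁻¹ ∈ A) {y : G} {i j : Fin 3}
    (hy : cj y (zpowers (r i)) = zpowers (r j)) : cj y (cj (g i) A) = cj (g j) A := by
  rw [cj_zp] at hy
  have hyy : y * r i * y⁻¹ * (y * r i * y⁻¹) = 1 := by
    calc y * r i * y⁻¹ * (y * r i * y⁻¹) = y * (r i * r i) * y⁻¹ := by group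
      _ = 1 := by rw [f.sq]; group
  have hy1 : y * r i * y⁻¹ ≠ 1 := by
    intro h2
    rw [mul_inv_eq_one, mul_eq_left] at h2
    exact f.r1 i h2
  have hy2 := zp_inj hyy (f.sq j) hy1 hy
  have h1 := cjA nA (eq_of (f.gr i) hy2 (f.gr j))
  rw [← cj_mul]
  have e : y * g i = g j * ((g j)⁻¹ * y * g i) := by group
  rw [e, cj_mul, h1]

theorem B_NV [Finite G] (i : Fin 3) : cj (g i) B ≤ normalizer (V : Set G) := by
  -- `B ≤ N(V)`
  have h0 : B ≤ normalizer (V : Set G) := by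
    intro b hb
    apply mem_normalizer_of_conj
    intro v hv
    have h1 := f.CB v (f.VC hv) b hb
    have h2 : b * v * b⁻¹ = (v * b * v⁻¹ * b⁻¹)⁻¹ * v := by group
    rw [h2]
    refine V.mul_mem (V.inv_mem ?_) hv
    rcases h1 with h1 | h1
    · rw [h1]; exact one_mem _
    · rw [h1]; exact f.memr 0
  rintro _ ⟨b, hb, rfl⟩
  exact mul_mem (mul_mem (f.gV i) (h0 hb)) (inv_mem (f.gV i))

theorem sideW [Finite G] : SideW V (fun i => zpowers (r i)) (fun i => cj (g i) B) (fun i => cj (g i) C) where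
  third := third
  V_C i := by
    have h1 : cj (g i) V = V := cj_eq_self_iff.2 (f.gV i)
    rw [← h1]
    exact cj_mono f.VC
  R_V i := by
    rw [zpowers_le]; exact f.memr i
  R_B i := by
    rw [zpowers_le, ← f.gr i]
    exact conj_mem_cj f.rB
  R_ne i := by
    rw [Ne, zpowers_eq_bot]; exact f.r1 i
  R_inf i j hij := by
    rw [eq_bot_iff]
    rintro x ⟨h1, h2⟩
    rw [mem_bot]
    rcases (mem_zp (f.sq i)).1 h1 with h3 | h3
    · exact h3
    rcases (mem_zp (f.sq j)).1 h2 with h4 | h4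
    · exact h4
    · exact absurd (f.inj (h3.symm.trans h4)) hij
  B_comm i := by
    rintro _ ⟨a, ha, rfl⟩ _ ⟨b, hb, rfl⟩
    change g i * a * (g i)⁻¹ * (g i * b * (g i)⁻¹) = g i * b * (g i)⁻¹ * (g i * a * (g i)⁻¹)
    calc g i * a * (g i)⁻¹ * (g i * b * (g i)⁻¹) = g i * (a * b) * (g i)⁻¹ := by group
      _ = g i * (b * a) * (g i)⁻¹ := by rw [f.Bc a ha b hb]
      _ = g i * b * (g i)⁻¹ * (g i * a * (g i)⁻¹) := by group
  B_sq i := by
    rintro _ ⟨a, ha, rfl⟩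
    change g i * a * (g i)⁻¹ * (g i * a * (g i)⁻¹) = 1
    calc g i * a * (g i)⁻¹ * (g i * a * (g i)⁻¹) = g i * (a * a) * (g i)⁻¹ := by group
      _ = 1 := by rw [f.Bs a ha]; group
  C_comm i := by
    rintro _ ⟨a, ha, rfl⟩ _ ⟨b, hb, rfl⟩
    change g i * a * (g i)⁻¹ * (g i * b * (g i)⁻¹) = g i * b * (g i)⁻¹ * (g i * a * (g i)⁻¹)
    calc g i * a * (g i)⁻¹ * (g i * b * (g i)⁻¹) = g i * (a * b) * (g i)⁻¹ := by group
      _ = g i * (b * a) * (g i)⁻¹ := by rw [f.Cc a ha b hb]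
      _ = g i * b * (g i)⁻¹ * (g i * a * (g i)⁻¹) := by group
  C_sq i := by
    rintro _ ⟨a, ha, rfl⟩
    change g i * a * (g i)⁻¹ * (g i * a * (g i)⁻¹) = 1
    calc g i * a * (g i)⁻¹ * (g i * a * (g i)⁻¹) = g i * (a * a) * (g i)⁻¹ := by group
      _ = 1 := by rw [f.Cs a ha]; group
  CB i := by
    rintro _ ⟨c, hc, rfl⟩ _ ⟨b, hb, rfl⟩
    change g i * c * (g i)⁻¹ * (g i * b * (g i)⁻¹) * (g i * c * (g i)⁻¹)⁻¹ * (g i * b * (g i)⁻¹)⁻¹ ∈ zpowers (r i)
    have e : g i * c * (g i)⁻¹ * (g i * b * (g i)⁻¹) * (g i * c * (g i)⁻¹)⁻¹ * (g i * b * (g i)⁻¹)⁻¹ =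
        g i * (c * b * c⁻¹ * b⁻¹) * (g i)⁻¹ := by group
    rw [e]
    rcases f.CB c hc b hb with h1 | h1
    · rw [h1, mul_one, mul_inv_cancel]; exact one_mem _
    · rw [h1, f.gr]; exact mem_zpowers _
  B_NV := f.B_NV
  nB i := by
    intro x hx
    rw [← cj_eq_self_iff] at hx ⊢
    exact f.cA f.nB hx
  nC i := by
    intro x hx
    rw [← cj_eq_self_iff] at hx ⊢
    exact f.cA f.nC hx
  perm m x hx i := by
    obtain ⟨j, hj⟩ := f.perm (f.B_NV m hx) i
    exact ⟨j, by rw [cj_zp, hj]⟩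
  cB x i j h := f.cA f.nB h
  cC x i j h := f.cA f.nC h
  trans i j k hj hk := by
    by_cases hjk : j = k
    · subst hjk
      exact ⟨1, one_mem _, cj_one _⟩
    -- the conjugate by `g i` of the moving element
    obtain ⟨b, hb, hbm⟩ := f.mov
    refine ⟨g i * b * (g i)⁻¹, conj_mem_cj hb, ?_⟩
    have hx : g i * b * (g i)⁻¹ ∈ normalizer (V : Set G) := f.B_NV i (conj_mem_cj hb)
    obtain ⟨m, hm⟩ := f.perm hx j
    have hfix : (g i * b * (g i)⁻¹) * r i * (g i * b * (g i)⁻¹)⁻¹ = r i := by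
      rw [← f.gr i]
      have h1 := f.Bc b hb (r 0) f.rB
      calc g i * b * (g i)⁻¹ * (g i * r 0 * (g i)⁻¹) * (g i * b * (g i)⁻¹)⁻¹
          = g i * (b * r 0) * b⁻¹ * (g i)⁻¹ := by group
        _ = g i * (r 0 * b) * b⁻¹ * (g i)⁻¹ := by rw [h1]
        _ = g i * r 0 * (g i)⁻¹ := by group
    have hmi : m ≠ i := by
      rintro rfl
      have h1 : r j = r m := by
        have := hm.trans hfix.symm
        exact mul_left_cancel (mul_right_cancel this)
      exact hj (f.inj h1)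
    have hmj : m ≠ j := by
      rintro rfl
      -- then the element fixes every point
      have hall : ∀ v ∈ V, (g i * b * (g i)⁻¹) * v * (g i * b * (g i)⁻¹)⁻¹ = v := by
        intro v hv
        rcases (f.mem v).1 hv with rfl | ⟨l, rfl⟩
        · group
        by_cases hli : l = i
        · rw [hli]; exact hfix
        by_cases hlm : l = m
        · rw [hlm]; exact hm
        · rw [← f.mul i m l (Ne.symm hj) (Ne.symm hlm) (Ne.symm hli)]
          calc (g i * b * (g i)⁻¹) * (r i * r m) * (g i * b * (g i)⁻¹)⁻¹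
              = ((g i * b * (g i)⁻¹) * r i * (g i * b * (g i)⁻¹)⁻¹) *
                ((g i * b * (g i)⁻¹) * r m * (g i * b * (g i)⁻¹)⁻¹) := by group
            _ = r i * r m := by rw [hfix, hm]
      have h1 : b * r 1 * b⁻¹ = r 1 := by
        have h2 := hall (g i * r 1 * (g i)⁻¹) ((mem_normalizer_iff.1 (f.gV i) _).1 (f.memr 1))
        have h3 : g i * (b * r 1 * b⁻¹) * (g i)⁻¹ = g i * r 1 * (g i)⁻¹ := by
          rw [← h2]; group
        exact mul_left_cancel (mul_right_cancel h3)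
      rw [hbm] at h1
      exact absurd (f.inj h1) (by decide)
    have hmk : m = k := by
      have key : ∀ i j k m : Fin 3, j ≠ i → k ≠ i → j ≠ k → m ≠ i → m ≠ j → m = k := by decide
      exact key i j k m hj hk hjk hmi hmj
    subst hmk
    change cj _ (zpowers (r j)) = zpowers (r m)
    rw [cj_zp, hm]
  free i j hj b hb h v hv := by
    have hx := f.B_NV i hb
    change cj b (zpowers (r j)) = zpowers (r j) at h
    rw [cj_zp] at h
    have hy1 : b * r j * b⁻¹ ≠ 1 := by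
      intro h2
      rw [mul_inv_eq_one, mul_eq_left] at h2
      exact f.r1 j h2
    have hyy : b * r j * b⁻¹ * (b * r j * b⁻¹) = 1 := by
      calc b * r j * b⁻¹ * (b * r j * b⁻¹) = b * (r j * r j) * b⁻¹ := by group
        _ = 1 := by rw [f.sq]; group
    have h1 : b * r j * b⁻¹ = r j := zp_inj hyy (f.sq j) hy1 h
    have h2 : b * r i * b⁻¹ = r i := by
      obtain ⟨a, ha, rfl⟩ := hb
      change g i * a * (g i)⁻¹ * r i * (g i * a * (g i)⁻¹)⁻¹ = r i
      rw [← f.gr i]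
      calc g i * a * (g i)⁻¹ * (g i * r 0 * (g i)⁻¹) * (g i * a * (g i)⁻¹)⁻¹
          = g i * (a * r 0) * a⁻¹ * (g i)⁻¹ := by group
        _ = g i * (r 0 * a) * a⁻¹ * (g i)⁻¹ := by rw [f.Bc a ha (r 0) f.rB]
        _ = g i * r 0 * (g i)⁻¹ := by group
    have h3 : b * v * b⁻¹ = v := by
      rcases (f.mem v).1 hv with rfl | ⟨l, rfl⟩
      · group
      by_cases hli : l = i
      · rw [hli]; exact h2
      by_cases hlm : l = j
      · rw [hlm]; exact h1
      · rw [← f.mul i j l (Ne.symm hj) (Ne.symm hlm) (Ne.symm hli)]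
        calc b * (r i * r j) * b⁻¹ = (b * r i * b⁻¹) * (b * r j * b⁻¹) := by group
          _ = r i * r j := by rw [h2, h1]
    exact mul_inv_eq_iff_eq_mul.1 h3
  VB i v hv h := by
    rcases (f.mem v).1 hv with rfl | ⟨j, rfl⟩
    · exact one_mem _
    by_cases hij : j = i
    · subst hij; exact mem_zpowers _
    · exfalso
      obtain ⟨b, hb, hbm⟩ := f.mov
      have h1 := h _ (conj_mem_cj (g := g i) hb)
      -- pull back by `g i`
      have h2 : b * ((g i)⁻¹ * r j * g i) * b⁻¹ = (g i)⁻¹ * r j * g i := by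
        calc b * ((g i)⁻¹ * r j * g i) * b⁻¹ = (g i)⁻¹ * (g i * b * (g i)⁻¹ * r j) * g i * b⁻¹ := by group
          _ = (g i)⁻¹ * (r j * (g i * b * (g i)⁻¹)) * g i * b⁻¹ := by rw [h1]
          _ = (g i)⁻¹ * r j * g i := by group
      obtain ⟨m, hm⟩ := f.perm (inv_mem (f.gV i)) j
      rw [inv_inv] at hm
      rw [hm] at h2
      have hm0 : m ≠ 0 := by
        rintro rfl
        have h3 : r j = g i * r 0 * (g i)⁻¹ := by rw [← hm]; group
        rw [f.gr] at h3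
        exact hij (f.inj h3)
      have h3 : b * r 1 * b⁻¹ = r 1 := by
        have h0 : b * r 0 * b⁻¹ = r 0 := by rw [f.Bc b hb (r 0) f.rB, mul_inv_cancel_right]
        by_cases hm1 : m = 1
        · rw [hm1] at h2; exact h2
        · rw [← f.mul 0 m 1 (Ne.symm hm0) hm1 (by decide)]
          calc b * (r 0 * r m) * b⁻¹ = (b * r 0 * b⁻¹) * (b * r m * b⁻¹) := by group
            _ = r 0 * r m := by rw [h0, h2]
      rw [hbm] at h3
      exact absurd (f.inj h3) (by decide)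

end FourD

end Cfsg.Agent.Omega.IId.SwCv.NatM
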