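import Cfsg.Agent.Omega.IId.SwCv.NatM.OneT
import Cfsg.Agent.Omega.IId.SwCv.NatM.FourS

/-!
# The hypotheses of `Hcen` (helper48 #20133 (3), (5), (6)): `N_G(⟨n⟩)` centralises `n d`

`V₁ = l` (line of `V`), `V₂ = W₁` (line of the natural partner), `B₁ i = C₂ j = A = ⟨W₁^H⟩`, `C₁ i = B₂ j = L = ⟨l^H⟩`,
`T = S'` Sylow in `H = N(⟨n⟩)`, `T₁ = C_S(n)`, `d` the involution of `C_{V'}(O²(P'))`.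
-/

set_option autoImplicit false

namespace Cfsg.Agent.Omega.IId.SwCv.NatM

open Subgroup Cfsg.Agent.Omega.BTwo Cfsg.Agent.Omega.Mix Cfsg.Agent.Omega.MixOne

variable {G : Type*} [Group G] {ι κ : Type*}

/-- the data of #20133 (3), (5), (6) -/
structure HcD (V₁ V₂ : Subgroup G) (R₁ B₁ C₁ : ι → Subgroup G) (R₂ B₂ C₂ : κ → Subgroup G) (i : ι) (j : κ)
    (T T₁ : Subgroup G) (n d : G) : Prop extends OneT V₁ V₂ R₁ B₁ C₁ R₂ B₂ C₂ i j T where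
  nR : R₁ i = zpowers n
  nsq : n * n = 1
  n1 : n ≠ 1
  /-- `L` is generated by conjugates of `V₁` modulo `Y` (weak form) -/
  gen₁ : ∀ b ∈ B₁ i, (∀ h ∈ normalizer (R₁ i : Set G), ∀ v ∈ V₁, b * (h * v * h⁻¹) = h * v * h⁻¹ * b) →
    b ∈ YY (B₁ i) (C₁ i)
  /-- `[V₁, V₂] ≠ 1` -/
  ne : ∃ v ∈ V₁, ∃ w ∈ V₂, v * w ≠ w * v
  T2 : IsPGroup 2 T
  /-- `d ∈ D_W` -/
  dD : d ∈ ⨅ k, YY (B₂ k) (C₂ k)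
  /-- `C_{D_W}(T) ≤ ⟨d⟩` -/
  fix : ∀ z, z ∈ ⨅ k, YY (B₂ k) (C₂ k) → (∀ t ∈ T, t * z = z * t) → z = 1 ∨ z = d
  /-- (P) for `d^h` -/
  P : ∀ h ∈ normalizer (R₁ i : Set G), (∀ k, ∀ b ∈ B₁ k, b * (h * d * h⁻¹) = h * d * h⁻¹ * b) →
    ∀ v ∈ V₁, ∀ w ∈ V₂, v * (h * w * h⁻¹) = h * w * h⁻¹ * v
  T₁N : T₁ ≤ normalizer (R₁ i : Set G)
  /-- `[V₁, T₁] ≤ ⟨n⟩` -/
  T₁V : ∀ t ∈ T₁, ∀ v ∈ V₁, t * v * t⁻¹ * v⁻¹ ∈ R₁ i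
  /-- `T₁ ∩ C_G(Y)` is a Sylow 2-subgroup of `C_G(Y)`, `Y = C_G(A L)` -/
  odd₁ : ¬ 2 ∣ (T₁ ⊓ centralizer (YY (B₁ i) (C₁ i) : Set G)).relIndex (centralizer (YY (B₁ i) (C₁ i) : Set G))

end Cfsg.Agent.Omega.IId.SwCv.NatM
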