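import Cfsg.Agent.Omega.IId.SwCv.NatM.HcD

/-!
# `N_G(⟨n⟩)` centralises `u = n d` (helper48 #20133 (3), (5), (6))
-/

set_option autoImplicit false
set_option linter.unusedSectionVars false

namespace Cfsg.Agent.Omega.IId.SwCv.NatM

open Subgroup Cfsg.Agent.Omega.BTwo Cfsg.Agent.Omega.Mix Cfsg.Agent.Omega.MixOne
open Cfsg.Agent.Omega.IId.M4 (odd_rel)

variable {G : Type*} [Group G] {ι κ : Type*}

/-! ### One side -/

section side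

variable {V : Subgroup G} {R B C : ι → Subgroup G} (s : SideW V R B C)
include s

/-- `[T m, T k] ≤ B₀` -/
theorem TT_B0 {m k : ι} (hmk : m ≠ k) {t u : G} (ht : t ∈ TT V (B m)) (hu : u ∈ TT V (B k)) :
    t * u * t⁻¹ * u⁻¹ ∈ ⨅ k, B k := by
  have h1 := s.comm_mem_T (mem_TT.1 ht).2 (TT_le _ _ hu)
  have h2 := s.comm_mem_T' (mem_TT.1 hu).2 (TT_le _ _ ht)
  exact s.mem_B0 hmk (TT_le _ _ h2) (TT_le _ _ h1)

/-- **surjectivity**: `t ↦ [b, t]` maps `T k` onto `T i` modulo `B₀` -/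
theorem surj [Finite G] {i k : ι} (hik : i ≠ k) {b : G} (hb : b ∈ B i) (hbV : ¬ ∀ v ∈ V, b * v = v * b) {c : G}
    (hc : c ∈ TT V (B i)) : ∃ t ∈ TT V (B k), ∃ x ∈ ⨅ m, B m, b * t * b⁻¹ * t⁻¹ = c * x := by
  set Ti := TT V (B i) with hTi
  set Tk := TT V (B k) with hTk
  set B0 := ⨅ m, B m with hB0
  have hB0i : B0 ≤ Ti := by
    intro x hx
    rw [hTi, mem_TT]
    refine ⟨mem_iInf.1 hx i, fun v hv => ?_⟩
    have h1 := s.Y_V (mem_iInf.1 (s.B0_le_D hx) i) v hv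
    exact h1
  have hB0k : B0 ≤ Tk := by
    intro x hx
    rw [hTk, mem_TT]
    refine ⟨mem_iInf.1 hx k, fun v hv => ?_⟩
    have h1 := s.Y_V (mem_iInf.1 (s.B0_le_D hx) i) v hv
    exact h1
  have hTic : ∀ x ∈ Ti, ∀ y ∈ Ti, x * y = y * x := fun x hx y hy =>
    s.B_comm i x (TT_le _ _ hx) y (TT_le _ _ hy)
  have hN : (B0.subgroupOf Ti).Normal := ⟨by
    rintro ⟨x, hx⟩ h ⟨y, hy⟩
    rw [mem_subgroupOf] at h ⊢
    change y * x * y⁻¹ ∈ B0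
    rw [hTic y hy x hx, mul_inv_cancel_right]
    exact h⟩
  have hf : ∀ t : Tk, b * t * b⁻¹ * (t : G)⁻¹ ∈ Ti := fun t =>
    s.comm_mem_T' (mem_TT.1 t.2).2 hb
  let φ : Tk →* Ti ⧸ (B0.subgroupOf Ti) := MonoidHom.mk' (fun t => QuotientGroup.mk ⟨_, hf t⟩) (by
    rintro ⟨t, ht⟩ ⟨u, hu⟩
    rw [← QuotientGroup.mk_mul, QuotientGroup.eq]
    rw [mem_subgroupOf]
    change (b * (t * u) * b⁻¹ * (t * u)⁻¹)⁻¹ * ((b * t * b⁻¹ * t⁻¹) * (b * u * b⁻¹ * u⁻¹)) ∈ B0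
    have hu' := hf ⟨u, hu⟩
    change b * u * b⁻¹ * u⁻¹ ∈ Ti at hu'
    have h1 : t * (b * u * b⁻¹ * u⁻¹) * t⁻¹ * (b * u * b⁻¹ * u⁻¹)⁻¹ ∈ B0 := TT_B0 s (Ne.symm hik) ht hu'
    have hcm := s.B_comm i
    have h2 : b * (t * u) * b⁻¹ * (t * u)⁻¹ = (b * t * b⁻¹ * t⁻¹) * (t * (b * u * b⁻¹ * u⁻¹) * t⁻¹) := by group
    rw [h2]
    have h3 : ((b * t * b⁻¹ * t⁻¹) * (t * (b * u * b⁻¹ * u⁻¹) * t⁻¹))⁻¹ *
        ((b * t * b⁻¹ * t⁻¹) * (b * u * b⁻¹ * u⁻¹)) =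
        (t * (b * u * b⁻¹ * u⁻¹) * t⁻¹)⁻¹ * (b * u * b⁻¹ * u⁻¹) := by group
    rw [h3]
    have h4 : (t * (b * u * b⁻¹ * u⁻¹) * t⁻¹)⁻¹ * (b * u * b⁻¹ * u⁻¹) =
        (b * u * b⁻¹ * u⁻¹)⁻¹ * (t * (b * u * b⁻¹ * u⁻¹) * t⁻¹ * (b * u * b⁻¹ * u⁻¹)⁻¹)⁻¹ * (b * u * b⁻¹ * u⁻¹) := by
      group
    rw [h4]
    have h5 := inv_mem h1
    have h6 := hTic _ (inv_mem hu') _ (hB0i h5)
    rw [h6, inv_mul_cancel_right]
    exact h5)
  have hφ : ∀ t : Tk, φ t = QuotientGroup.mk ⟨_, hf t⟩ := fun _ => rfl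
  have hker : φ.ker = B0.subgroupOf Tk := by
    ext t
    rw [MonoidHom.mem_ker, hφ, QuotientGroup.eq_one_iff, mem_subgroupOf, mem_subgroupOf]
    constructor
    · intro h
      exact s.inj0 hik hb hbV (TT_le _ _ t.2) h
    · intro h
      change b * t * b⁻¹ * (t : G)⁻¹ ∈ B0
      have h1 := s.B0_comm h i b hb
      rw [h1, mul_inv_cancel_right, mul_inv_cancel]
      exact one_mem _
  have hcard : Nat.card Tk = Nat.card Ti := by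
    obtain ⟨m, -, -, x, hx, e⟩ := s.trans_B i k
    have h1 := s.cj_T (s.B_NV m hx) e
    rw [hTk, ← h1, card_cj]
  have c1 : Nat.card φ.ker * φ.ker.index = Nat.card Tk := card_mul_index _
  have c2 : Nat.card (B0.subgroupOf Ti) * (B0.subgroupOf Ti).index = Nat.card Ti := card_mul_index _
  have c3 : Nat.card φ.ker = Nat.card B0 := by
    rw [hker]
    exact Nat.card_congr (subgroupOfEquivOfLe hB0k).toEquiv
  have c4 : Nat.card (B0.subgroupOf Ti) = Nat.card B0 := Nat.card_congr (subgroupOfEquivOfLe hB0i).toEquiv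
  have c5 : φ.ker.index = (B0.subgroupOf Ti).index := by
    have hpos : 0 < Nat.card B0 := Nat.card_pos
    rw [c3] at c1
    rw [c4] at c2
    exact Nat.eq_of_mul_eq_mul_left hpos (by rw [c1, c2, hcard])
  have hr : φ.range = ⊤ := by
    apply eq_top_of_card_eq
    rw [← index_ker, c5]
    rfl
  have h1 : (QuotientGroup.mk ⟨c, hc⟩ : Ti ⧸ (B0.subgroupOf Ti)) ∈ φ.range := by rw [hr]; exact mem_top _
  obtain ⟨t, ht⟩ := h1
  rw [hφ, QuotientGroup.eq, mem_subgroupOf] at ht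
  change (b * t * b⁻¹ * (t : G)⁻¹)⁻¹ * c ∈ B0 at ht
  refine ⟨t, t.2, c⁻¹ * (b * t * b⁻¹ * (t : G)⁻¹), ?_, by group⟩
  have := inv_mem ht
  have e : ((b * t * b⁻¹ * (t : G)⁻¹)⁻¹ * c)⁻¹ = c⁻¹ * (b * t * b⁻¹ * (t : G)⁻¹) := by group
  rwa [e] at this

end side

/-- a 2-group `T` normalising a 2-group `K ≠ 1` centralises an element `≠ 1` of `K` -/
theorem exists_fixT [Finite G] {T K : Subgroup G} (hT : IsPGroup 2 T) (hK : IsPGroup 2 K)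
    (hTK : T ≤ normalizer (K : Set G)) (hne : K ≠ ⊥) : ∃ z : G, z ≠ 1 ∧ z ∈ K ∧ ∀ x ∈ T, x * z = z * x := by
  have : Fact (Nat.Prime 2) := ⟨Nat.prime_two⟩
  let _inst : MulAction T K :=
    { smul := fun x k => ⟨(x : G) * k * (x : G)⁻¹, conj_mem_of_normalizer (hTK x.2) k.2⟩
      one_smul := fun k => Subtype.ext (by
        change ((1 : T) : G) * k * ((1 : T) : G)⁻¹ = k
        simp)
      mul_smul := fun x y k => Subtype.ext (by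
        change ((x * y : T) : G) * k * ((x * y : T) : G)⁻¹ =
          (x : G) * ((y : G) * k * (y : G)⁻¹) * (x : G)⁻¹
        rw [Subgroup.coe_mul]
        group) }
  have hsmul : ∀ (x : T) (k : K), ((x • k : K) : G) = (x : G) * k * (x : G)⁻¹ := fun _ _ => rfl
  have h2 : 2 ∣ Nat.card K := by
    obtain ⟨n, hn⟩ := (IsPGroup.iff_card).1 hK
    rw [hn]
    refine dvd_pow_self 2 fun h0 => hne ?_
    rw [h0, pow_zero] at hn
    exact eq_bot_of_card_eq K hn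
  have h1 : (1 : K) ∈ MulAction.fixedPoints T K := by
    intro x
    apply Subtype.ext
    rw [hsmul]
    simp
  obtain ⟨z, hz, hz1⟩ := hT.exists_fixed_point_of_prime_dvd_card_of_fixed_point K h2 h1
  refine ⟨z, fun h => hz1 (Subtype.ext h.symm), z.2, fun x hx => ?_⟩
  have h3 := congrArg Subtype.val (hz ⟨x, hx⟩)
  rw [hsmul] at h3
  exact mul_inv_eq_iff_eq_mul.1 h3

namespace HcD

variable {V₁ V₂ : Subgroup G} {R₁ B₁ C₁ : ι → Subgroup G} {R₂ B₂ C₂ : κ → Subgroup G} {i : ι} {j : κ}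
  {T T₁ : Subgroup G} {n d : G} (t : HcD V₁ V₂ R₁ B₁ C₁ R₂ B₂ C₂ i j T T₁ n d)
include t

theorem V₂_B : V₂ ≤ B₁ i := by rw [t.hB]; exact t.s₂.V_C j

theorem V₁_B : V₁ ≤ B₂ j := by rw [← t.hC]; exact t.s₁.V_C i

theorem mem_zn {r : G} (hr : r ∈ R₁ i) : r = 1 ∨ r = n := by
  rw [t.nR] at hr
  exact (mem_zp t.nsq).1 hr

theorem n_mem : n ∈ R₁ i := by rw [t.nR]; exact mem_zpowers n

theorem conj_n {h : G} (hh : h ∈ normalizer (R₁ i : Set G)) : h * n * h⁻¹ = n := by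
  rcases t.mem_zn (conj_mem_of_normalizer hh t.n_mem) with h1 | h1
  · exfalso
    apply t.n1
    have : n = h⁻¹ * (h * n * h⁻¹) * h := by group
    rw [this, h1]; group
  · exact h1

/-- `C_G(Y) ≤ N(R)` -/
theorem KK_N : centralizer (YY (B₁ i) (C₁ i) : Set G) ≤ normalizer (R₁ i : Set G) := by
  intro g hg
  rw [← cj_eq_self_iff]
  refine le_antisymm (cj_le_iff.2 fun r hr => ?_) fun r hr => ?_
  · rw [← mem_centralizer_iff.1 hg r (t.s₁.R_Y i hr), mul_inv_cancel_right]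
    exact hr
  · have := conj_mem_cj (g := g) hr
    rwa [← mem_centralizer_iff.1 hg r (t.s₁.R_Y i hr), mul_inv_cancel_right] at this

/-- `C_{B k}(V₁)` centralises `Y` -/
theorem TT_KK [Finite G] {k : ι} {x : G} (hx : x ∈ TT V₁ (B₁ k)) : x ∈ centralizer (YY (B₁ i) (C₁ i) : Set G) := by
  rw [mem_centralizer_iff]
  intro y hy
  obtain ⟨r, hr, d', hd', rfl⟩ := t.exists_RD hy
  have h1 := (mem_TT.1 hx).2 r (t.s₁.R_V i hr)
  have h2 := SideW.D_comm hd' k x (TT_le _ _ hx)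
  calc r * d' * x = r * (d' * x) := by group
    _ = r * x * d' := by rw [h2]; group
    _ = x * (r * d') := by rw [← h1]; group

/-- `B₀ ≤ Y` -/
theorem B0_Y {x : G} (hx : x ∈ ⨅ m, B₁ m) : x ∈ YY (B₁ i) (C₁ i) := mem_iInf.1 (t.s₁.B0_le_D hx) i

/-- **(3)** for every `h ∈ N(R)` there is `k ∈ C_G(Y)` such that `[V₁, V₂^{kh}] ≠ 1` -/
theorem exists_k [Finite G] {h : G} (hh : h ∈ normalizer (R₁ i : Set G)) :
    ∃ k ∈ centralizer (YY (B₁ i) (C₁ i) : Set G), ∃ v ∈ V₁, ∃ w ∈ V₂,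
      v * (k * h * w * (k * h)⁻¹) ≠ k * h * w * (k * h)⁻¹ * v := by
  obtain ⟨v0, hv0, w0, hw0, hvw⟩ := t.ne
  set e := h * w0 * h⁻¹ with he
  have heB : e ∈ B₁ i := conj_mem_of_normalizer (t.s₁.nB i hh) (t.V₂_B hw0)
  by_cases hcase : ∀ v ∈ V₁, e * v = v * e
  swap
  · push Not at hcase
    obtain ⟨v, hv, hne⟩ := hcase
    refine ⟨1, one_mem _, v, hv, w0, hw0, ?_⟩
    rw [one_mul, ← he]
    exact fun h1 => hne h1.symm
  -- `e` centralises `V₁`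
  have heY : e ∉ YY (B₁ i) (C₁ i) := by
    intro hY
    have h1 := conj_inv_mem_of_normalizer (t.s₁.nY i hh) hY
    have h2 : h⁻¹ * e * h = w0 := by rw [he]; group
    rw [h2] at h1
    exact hvw (t.s₁.Y_V h1 v0 hv0).symm
  obtain ⟨h', hh', v1, hv1, hne⟩ : ∃ h' ∈ normalizer (R₁ i : Set G), ∃ v1 ∈ V₁,
      e * (h' * v1 * h'⁻¹) ≠ h' * v1 * h'⁻¹ * e := by
    by_contra hcon
    push Not at hcon
    exact heY (t.gen₁ e heB hcon)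
  -- `f = e^{h'⁻¹}` moves `V₁`
  set f := h'⁻¹ * e * h' with hf
  have hfB : f ∈ B₁ i := conj_inv_mem_of_normalizer (t.s₁.nB i hh') heB
  have hfe : e = h' * f * h'⁻¹ := by rw [hf]; group
  have hfV : ¬ ∀ v ∈ V₁, f * v = v * f := by
    intro hcon
    apply hne
    rw [hfe]
    calc h' * f * h'⁻¹ * (h' * v1 * h'⁻¹) = h' * (f * v1) * h'⁻¹ := by group
      _ = h' * (v1 * f) * h'⁻¹ := by rw [hcon v1 hv1]
      _ = h' * v1 * h'⁻¹ * (h' * f * h'⁻¹) := by group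
  have heT : e ∈ TT V₁ (B₁ i) := mem_TT.2 ⟨heB, hcase⟩
  obtain ⟨c, hc, hcT⟩ : ∃ c ∈ TT V₁ (B₁ i), h' * c * h'⁻¹ ∉ TT V₁ (B₁ i) := by
    by_contra hcon
    push Not at hcon
    have h1 : cj h' (TT V₁ (B₁ i)) ≤ TT V₁ (B₁ i) := cj_le_iff.2 hcon
    have h2 : cj h' (TT V₁ (B₁ i)) = TT V₁ (B₁ i) := eq_of_le_of_card_ge h1 (card_cj _ _).ge
    rw [← h2, mem_cj] at heT
    exact hfV (mem_TT.1 heT).2
  have hcB : h' * c * h'⁻¹ ∈ B₁ i := conj_mem_of_normalizer (t.s₁.nB i hh') (TT_le _ _ hc)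
  have hcV : ∃ v ∈ V₁, (h' * c * h'⁻¹) * v ≠ v * (h' * c * h'⁻¹) := by
    by_contra hcon
    push Not at hcon
    exact hcT (mem_TT.2 ⟨hcB, hcon⟩)
  obtain ⟨v, hv, hvc⟩ := hcV
  obtain ⟨k0, hk0, -⟩ := t.s₁.third i i
  obtain ⟨s, hs, x, hx, hsx⟩ := surj t.s₁ (Ne.symm hk0) hfB hfV hc
  have hsK := t.TT_KK hs
  -- `s' = s^{h'}`
  have hs'K : h' * s * h'⁻¹ ∈ centralizer (YY (B₁ i) (C₁ i) : Set G) :=
    conj_mem_of_normalizer (normalizer_le_normalizer_centralizer _ (t.s₁.nY i hh')) hsK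
  refine ⟨h' * s * h'⁻¹, hs'K, v, hv, w0, hw0, fun hcon => hvc ?_⟩
  -- `[e, s'] = c' x'`
  have hx' : h' * x * h'⁻¹ ∈ YY (B₁ i) (C₁ i) := conj_mem_of_normalizer (t.s₁.nY i hh') (t.B0_Y hx)
  have hxv := t.s₁.Y_V hx' v hv
  have hev := hcase v hv
  have e1 : e * (h' * s * h'⁻¹) * e⁻¹ * (h' * s * h'⁻¹)⁻¹ = (h' * c * h'⁻¹) * (h' * x * h'⁻¹) := by
    calc e * (h' * s * h'⁻¹) * e⁻¹ * (h' * s * h'⁻¹)⁻¹ = h' * (f * s * f⁻¹ * s⁻¹) * h'⁻¹ := by rw [hfe]; group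
      _ = h' * (c * x) * h'⁻¹ := by rw [hsx]
      _ = _ := by group
  have e2 : (h' * s * h'⁻¹) * h * w0 * ((h' * s * h'⁻¹) * h)⁻¹ = (h' * s * h'⁻¹) * e * (h' * s * h'⁻¹)⁻¹ := by
    rw [he]; group
  rw [e2] at hcon
  have c1 : Commute v ((h' * s * h'⁻¹) * e * (h' * s * h'⁻¹)⁻¹) := hcon
  have c2 : Commute v e := hev.symm
  have c3 : Commute v (h' * x * h'⁻¹) := hxv.symm
  have e3 : h' * c * h'⁻¹ = e * ((h' * s * h'⁻¹) * e * (h' * s * h'⁻¹)⁻¹)⁻¹ * (h' * x * h'⁻¹)⁻¹ := by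
    have : e * ((h' * s * h'⁻¹) * e * (h' * s * h'⁻¹)⁻¹)⁻¹ = e * (h' * s * h'⁻¹) * e⁻¹ * (h' * s * h'⁻¹)⁻¹ := by
      group
    rw [this, e1, mul_inv_cancel_right]
  have c4 : Commute v (h' * c * h'⁻¹) := by
    rw [e3]
    exact (c2.mul_right c1.inv_right).mul_right c3.inv_right
  exact c4.symm

/-- **(3)** `d^h ∉ D₁` -/
theorem not_mem_D₁ [Finite G] {h : G} (hh : h ∈ normalizer (R₁ i : Set G)) :
    h * d * h⁻¹ ∉ ⨅ m, YY (B₁ m) (C₁ m) := by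
  intro hz
  obtain ⟨k, hk, v, hv, w, hw, hne⟩ := t.exists_k hh
  have hkh := mul_mem (t.KK_N hk) hh
  have e : k * h * d * (k * h)⁻¹ = h * d * h⁻¹ := by
    have h1 := mem_centralizer_iff.1 hk _ (mem_iInf.1 hz i)
    calc k * h * d * (k * h)⁻¹ = k * (h * d * h⁻¹) * k⁻¹ := by group
      _ = h * d * h⁻¹ := by rw [← h1, mul_inv_cancel_right]
  refine hne (t.P (k * h) hkh (fun m b hb => ?_) v hv w hw)
  rw [e]
  exact (SideW.D_comm hz m b hb).symm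

theorem d_Y : d ∈ YY (B₁ i) (C₁ i) := by
  rw [t.YY_eq_YY]
  exact mem_iInf.1 t.dD j

/-- **(3)** `(n d)^h ∈ D₁` -/
theorem mem_D₁ [Finite G] {h : G} (hh : h ∈ normalizer (R₁ i : Set G)) :
    h * (n * d) * h⁻¹ ∈ ⨅ m, YY (B₁ m) (C₁ m) := by
  have h1 := conj_mem_of_normalizer (t.s₁.nY i hh) t.d_Y
  obtain ⟨r, hr, x, hx, e⟩ := t.exists_RD h1
  rcases t.mem_zn hr with hr1 | hr1
  · exfalso
    rw [hr1, one_mul] at e
    exact t.not_mem_D₁ hh (e ▸ hx)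
  · rw [hr1] at e
    have e2 : h * (n * d) * h⁻¹ = x := by
      calc h * (n * d) * h⁻¹ = (h * n * h⁻¹) * (h * d * h⁻¹) := by group
        _ = n * (n * x) := by rw [t.conj_n hh, e]
        _ = x := by rw [← mul_assoc, t.nsq, one_mul]
    rw [e2]; exact hx

/-! ### (5) -/

/-- the elements `g` of `C_G(Y)` with `[v, g] ∈ Y` -/
def Gm (t : HcD V₁ V₂ R₁ B₁ C₁ R₂ B₂ C₂ i j T T₁ n d) (v : G) : Subgroup G where
  carrier := {g | g ∈ centralizer (YY (B₁ i) (C₁ i) : Set G) ∧ v⁻¹ * g * v * g⁻¹ ∈ YY (B₁ i) (C₁ i)}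
  one_mem' := ⟨one_mem _, by
    have e : v⁻¹ * 1 * v * (1 : G)⁻¹ = 1 := by group
    rw [e]; exact one_mem _⟩
  mul_mem' := by
    rintro a b ⟨ha, ha'⟩ ⟨hb, hb'⟩
    refine ⟨mul_mem ha hb, ?_⟩
    have e : v⁻¹ * (a * b) * v * (a * b)⁻¹ = (v⁻¹ * a * v * a⁻¹) * (a * (v⁻¹ * b * v * b⁻¹) * a⁻¹) := by group
    rw [e]
    exact mul_mem ha' (conj_mem_of_normalizer (t.s₁.nY i (t.KK_N ha)) hb')
  inv_mem' := by
    rintro a ⟨ha, ha'⟩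
    refine ⟨inv_mem ha, ?_⟩
    have e : v⁻¹ * a⁻¹ * v * a⁻¹⁻¹ = a⁻¹ * (v⁻¹ * a * v * a⁻¹)⁻¹ * a := by
      have h1 := mem_centralizer_iff.1 ha _ (inv_mem ha')
      have h2 : v⁻¹ * a⁻¹ * v * a⁻¹⁻¹ = (v⁻¹ * a * v)⁻¹ * a := by group
      have h3 : a⁻¹ * (v⁻¹ * a * v * a⁻¹)⁻¹ * a = a⁻¹ * (a * (v⁻¹ * a * v)⁻¹) * a := by group
      rw [h2, h3]; group
    rw [e]
    exact conj_inv_mem_of_normalizer (t.s₁.nY i (t.KK_N ha)) (inv_mem ha')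

/-- **(5)** `[v, Γ] ≤ R` -/
theorem Gm_R [Finite G] {v : G} (hv : v ∈ V₁) {g : G} (hg : g ∈ t.Gm v) : v⁻¹ * g * v * g⁻¹ ∈ R₁ i := by
  set Y := YY (B₁ i) (C₁ i) with hY
  set K := centralizer (Y : Set G) with hK
  have hT₁ : ∀ x ∈ T₁ ⊓ K, v⁻¹ * x * v * x⁻¹ ∈ R₁ i := by
    rintro x ⟨hx, hxK⟩
    have h1 := t.T₁V x hx v hv
    have h2 : v⁻¹ * (x * v * x⁻¹ * v⁻¹) * v ∈ R₁ i := by
      have h3 := t.s₁.V_comm (t.s₁.R_V i h1) hv i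
      rw [mul_assoc, h3]
      rw [← mul_assoc, inv_mul_cancel, one_mul]
      exact h1
    have e : v⁻¹ * x * v * x⁻¹ = v⁻¹ * (x * v * x⁻¹ * v⁻¹) * v := by group
    rw [e]; exact h2
  have hle : T₁ ⊓ K ≤ t.Gm v := fun x hx => ⟨hx.2, t.s₁.R_Y i (hT₁ x hx)⟩
  have hle2 : t.Gm v ≤ K := fun x hx => hx.1
  have hodd : Odd ((T₁ ⊓ K).relIndex (t.Gm v)) := by
    rw [← Nat.not_even_iff_odd]
    intro he
    refine t.odd₁ ((even_iff_two_dvd.1 he).trans ?_)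
    exact Dvd.intro _ (relIndex_mul_relIndex _ _ _ hle hle2)
  obtain ⟨y, hy, hav⟩ := Avg.avg (X := t.Gm v) (P := T₁ ⊓ K) (Y := Y) (D := R₁ i) hle hodd (t.s₁.R_Y i)
    (fun x hx y hy => conj_mem_of_normalizer (t.s₁.nY i (t.KK_N (hle2 hx))) hy)
    (fun x hx y hy => conj_mem_of_normalizer (t.KK_N (hle2 hx)) hy)
    (fun x hx y hy => by
      rw [t.Y_comm hx (t.s₁.R_Y i hy), mul_inv_cancel_right]; exact hy)
    (fun y hy => by rw [t.Y_sq hy]; exact one_mem _)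
    (c := v) (fun x hx => hx.2) hT₁
  have h1 := hav g hg
  have h2 := mem_centralizer_iff.1 (hle2 hg) y hy
  have e : (v * y)⁻¹ * g * (v * y) * g⁻¹ = v⁻¹ * g * v * g⁻¹ := by
    have h3 := t.Y_comm (inv_mem hy) hg.2
    calc (v * y)⁻¹ * g * (v * y) * g⁻¹ = y⁻¹ * (v⁻¹ * g * v) * (y * g⁻¹) := by group
      _ = y⁻¹ * (v⁻¹ * g * v) * (g⁻¹ * y) := by
        have : y * g⁻¹ = g⁻¹ * y := by
          calc y * g⁻¹ = g⁻¹ * (g * y) * g⁻¹ := by group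
            _ = g⁻¹ * (y * g) * g⁻¹ := by rw [h2]
            _ = g⁻¹ * y := by group
        rw [this]
      _ = y⁻¹ * (v⁻¹ * g * v * g⁻¹) * y := by group
      _ = (v⁻¹ * g * v * g⁻¹) * y⁻¹ * y := by rw [h3]
      _ = v⁻¹ * g * v * g⁻¹ := by group
  rwa [e] at h1

/-- **(5)** `t ∈ B₂ k ∩ YY (B₂ k) (C₂ k)` centralising `Y` lies in `R₂ k B₀'` -/
theorem five_a [Finite G] {k : κ} (hk : k ≠ j) {x : G} (hxB : x ∈ B₂ k) (hxY : x ∈ YY (B₂ k) (C₂ k))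
    (hxK : x ∈ centralizer (YY (B₁ i) (C₁ i) : Set G)) : ∃ r ∈ R₂ k, ∃ b ∈ ⨅ m, B₂ m, x = r * b := by
  obtain ⟨v₁, hv₁, w0, hw0, hvw⟩ := t.ne
  have hvB : v₁ ∈ B₂ j := t.V₁_B hv₁
  have hvi : v₁⁻¹ = v₁ := inv_eq_of_mul_eq_one_left (t.s₂.B_sq j v₁ hvB)
  have h1 : v₁ * x * v₁⁻¹ * x⁻¹ ∈ YY (B₁ i) (C₁ i) := by
    rw [t.YY_eq_YY]
    exact t.s₂.comm_B_Y hvB hxY
  have h2 : x ∈ t.Gm v₁ := by
    refine ⟨hxK, ?_⟩
    rw [hvi] at h1 ⊢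
    exact h1
  have h3 := t.Gm_R hv₁ h2
  refine t.s₂.mem_R_of_comm (Ne.symm hk) hvB (fun hcon => hvw (hcon w0 hw0)) hxB ?_
  rw [← t.hR]
  rw [hvi] at h3 ⊢
  exact h3

/-- **(5)** `y ∈ B₂ j ∩ Y` commuting with `B₂ k ∩ YY (B₂ k) (C₂ k)`, `k ≠ j`, lies in `R B₀'` -/
theorem five_b [Finite G] {k : κ} (hk : k ≠ j) {y : G} (hyB : y ∈ B₂ j) (hyY : y ∈ YY (B₂ j) (C₂ j))
    (hc : ∀ x ∈ B₂ k, x ∈ YY (B₂ k) (C₂ k) → x * y = y * x) : ∃ r ∈ R₂ j, ∃ b ∈ ⨅ m, B₂ m, y = r * b := by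
  obtain ⟨m, hmj, hmk, x, hx, e⟩ := t.s₂.trans_B j k
  have hxx : x * x = 1 := t.s₂.B_sq m x hx
  have hxi : x⁻¹ = x := inv_eq_of_mul_eq_one_left hxx
  have e' : cj x (R₂ k) = R₂ j := by
    rw [← e, ← cj_mul, hxx, cj_one]
  have eB := t.s₂.cB x j k e
  have eB' := t.s₂.cB x k j e'
  have eY := t.s₂.cY e
  have eY' := t.s₂.cY e'
  have hzB : x * y * x⁻¹ ∈ B₂ k := by rw [← eB]; exact conj_mem_cj hyB
  have hzY : x * y * x⁻¹ ∈ YY (B₂ k) (C₂ k) := by rw [← eY]; exact conj_mem_cj hyY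
  -- it centralises `Y`
  have hzK : x * y * x⁻¹ ∈ centralizer (YY (B₁ i) (C₁ i) : Set G) := by
    rw [mem_centralizer_iff]
    intro a ha
    rw [SetLike.mem_coe, t.YY_eq_YY] at ha
    obtain ⟨u, hu, huY, d', hd', rfl⟩ := t.s₂.exists_D ha
    have h1 : d' * (x * y * x⁻¹) = x * y * x⁻¹ * d' := SideW.D_comm hd' k _ hzB
    have h2 : u * (x * y * x⁻¹) = x * y * x⁻¹ * u := by
      have h3 : x * u * x⁻¹ ∈ B₂ k := by rw [← eB]; exact conj_mem_cj (TT_le _ _ hu)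
      have h4 : x * u * x⁻¹ ∈ YY (B₂ k) (C₂ k) := by rw [← eY]; exact conj_mem_cj huY
      have h5 := hc _ h3 h4
      rw [hxi] at h5 ⊢
      calc u * (x * y * x) = x * (x * u * x * y) * x := by
            calc u * (x * y * x) = (x * x) * u * x * y * x := by rw [hxx]; group
              _ = _ := by group
        _ = x * (y * (x * u * x)) * x := by rw [h5]
        _ = x * y * x * u * (x * x) := by group
        _ = x * y * x * u := by rw [hxx, mul_one]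
    calc u * d' * (x * y * x⁻¹) = u * (d' * (x * y * x⁻¹)) := by group
      _ = u * (x * y * x⁻¹) * d' := by rw [h1]; group
      _ = x * y * x⁻¹ * (u * d') := by rw [h2]; group
  obtain ⟨r, hr, b, hb, hrb⟩ := t.five_a hk hzB hzY hzK
  refine ⟨x * r * x⁻¹, by rw [← e']; exact conj_mem_cj hr, b, hb, ?_⟩
  have h6 := t.s₂.B0_comm hb m x hx
  calc y = x * (x * y * x⁻¹) * x⁻¹ := by
        rw [hxi]
        calc y = (x * x) * y * (x * x) := by rw [hxx]; group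
          _ = _ := by group
    _ = x * (r * b) * x⁻¹ := by rw [hrb]
    _ = x * r * (x⁻¹ * (x * b)) * x⁻¹ := by group
    _ = x * r * (x⁻¹ * (b * x)) * x⁻¹ := by rw [h6]
    _ = x * r * x⁻¹ * b := by group

/-- **(5)** `y ∈ Y` commuting with `B₂ k ∩ YY (B₂ k) (C₂ k)`, `k ≠ j`, lies in `R D₂` -/
theorem five_c [Finite G] {k : κ} (hk : k ≠ j) {y : G} (hyY : y ∈ YY (B₂ j) (C₂ j))
    (hc : ∀ x ∈ B₂ k, x ∈ YY (B₂ k) (C₂ k) → x * y = y * x) :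
    ∃ r ∈ R₂ j, ∃ z ∈ ⨅ m, YY (B₂ m) (C₂ m), y = r * z := by
  obtain ⟨u, hu, huY, d', hd', rfl⟩ := t.s₂.exists_D hyY
  obtain ⟨r, hr, b, hb, hrb⟩ := t.five_b hk (TT_le _ _ hu) huY fun x hx hxY => by
    have h1 := hc x hx hxY
    have h2 : d' * x = x * d' := SideW.D_comm hd' k x hx
    have h3 : x * u * d' = u * x * d' := by
      calc x * u * d' = x * (u * d') := by group
        _ = u * (d' * x) := by rw [h1]; group
        _ = u * x * d' := by rw [h2]; group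
    exact mul_right_cancel h3
  exact ⟨r, hr, b * d', mul_mem (t.s₂.B0_le_D hb) hd', by rw [hrb, mul_assoc]⟩

/-! ### (6) -/

/-- `D^1` : the elements `x` with `x^h ∈ D₁` for all `h ∈ N(R)` -/
def DD (t : HcD V₁ V₂ R₁ B₁ C₁ R₂ B₂ C₂ i j T T₁ n d) : Subgroup G where
  carrier := {x | ∀ h ∈ normalizer (R₁ i : Set G), h * x * h⁻¹ ∈ ⨅ m, YY (B₁ m) (C₁ m)}
  one_mem' := fun h _ => by
    rw [mul_one, mul_inv_cancel]; exact one_mem _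
  mul_mem' := by
    intro a b ha hb h hh
    have e : h * (a * b) * h⁻¹ = (h * a * h⁻¹) * (h * b * h⁻¹) := by group
    rw [e]
    exact mul_mem (ha h hh) (hb h hh)
  inv_mem' := by
    intro a ha h hh
    have e : h * a⁻¹ * h⁻¹ = (h * a * h⁻¹)⁻¹ := by group
    rw [e]
    exact inv_mem (ha h hh)

theorem DD_le {x : G} (hx : x ∈ t.DD) : x ∈ ⨅ m, YY (B₁ m) (C₁ m) := by
  have := hx 1 (one_mem _)
  rwa [one_mul, inv_one, mul_one] at this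

theorem DD_Y {x : G} (hx : x ∈ t.DD) : x ∈ YY (B₁ i) (C₁ i) := mem_iInf.1 (t.DD_le hx) i

theorem DD_conj {h : G} (hh : h ∈ normalizer (R₁ i : Set G)) {x : G} (hx : x ∈ t.DD) : h * x * h⁻¹ ∈ t.DD := by
  intro g hg
  have e : g * (h * x * h⁻¹) * g⁻¹ = (g * h) * x * (g * h)⁻¹ := by group
  rw [e]
  exact hx _ (mul_mem hg hh)

theorem nd_DD [Finite G] : n * d ∈ t.DD := fun _ hh => t.mem_D₁ hh

theorem DD_inf [Finite G] : t.DD ⊓ (⨅ m, YY (B₂ m) (C₂ m)) = ⊥ := by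
  by_contra hne
  have hp : IsPGroup 2 (t.DD ⊓ (⨅ m, YY (B₂ m) (C₂ m)) : Subgroup G) :=
    t.Y_isPGroup.to_le fun x hx => t.DD_Y hx.1
  have hN : T ≤ normalizer ((t.DD ⊓ (⨅ m, YY (B₂ m) (C₂ m)) : Subgroup G) : Set G) := by
    intro g hg
    refine mem_normalizer_of_conj ?_
    rintro x ⟨hx1, hx2⟩
    exact ⟨t.DD_conj (t.SR hg) hx1, conj_mem_of_normalizer (t.s₂.nD (t.SV₂ hg)) hx2⟩
  obtain ⟨z, hz1, ⟨hz2, hz3⟩, hzT⟩ := exists_fixT t.T2 hp hN hne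
  rcases t.fix z hz3 hzT with h1 | h1
  · exact hz1 h1
  · subst h1
    refine t.not_mem_D₁ (one_mem _) ?_
    rw [one_mul, inv_one, mul_one]
    exact t.DD_le hz2

/-- **(6)** the elements of `D^1` are `1` and `n z`, `z ∈ D₂` -/
theorem DD_mem [Finite G] {x : G} (hx : x ∈ t.DD) (hx1 : x ≠ 1) : ∃ z ∈ ⨅ m, YY (B₂ m) (C₂ m), x = n * z := by
  obtain ⟨k, hk, -⟩ := t.s₂.third j j
  have hxY := t.DD_Y hx
  rw [t.YY_eq_YY] at hxY
  obtain ⟨r, hr, z, hz, e⟩ := t.five_c hk hxY fun y hyB hyY => by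
    -- `[x, y] ∈ D^1 ∩ B₀'`
    have hyV : ∀ v ∈ V₂, y * v = v * y := t.s₂.Y_V hyY
    have hyT : y ∈ TT V₂ (B₂ k) := mem_TT.2 ⟨hyB, hyV⟩
    have h1 := t.s₂.B0_le_D (t.s₂.Y_T0 hxY hyT)
    have hyN : y ∈ normalizer (R₁ i : Set G) := by rw [t.hR]; exact t.s₂.cV_le_NR hyV j
    have h2 : x * y * x⁻¹ * y⁻¹ ∈ t.DD := by
      have e : x * y * x⁻¹ * y⁻¹ = x * (y * x⁻¹ * y⁻¹) := by group
      rw [e]
      exact mul_mem hx (t.DD_conj hyN (inv_mem hx))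
    have h3 : x * y * x⁻¹ * y⁻¹ ∈ t.DD ⊓ (⨅ m, YY (B₂ m) (C₂ m)) := ⟨h2, h1⟩
    rw [t.DD_inf, mem_bot] at h3
    exact (comm_of_eq_one h3).symm
  rw [← t.hR] at hr
  rcases t.mem_zn hr with hr1 | hr1
  · exfalso
    rw [hr1, one_mul] at e
    have h3 : x ∈ t.DD ⊓ (⨅ m, YY (B₂ m) (C₂ m)) := ⟨hx, e ▸ hz⟩
    rw [t.DD_inf, mem_bot] at h3
    exact hx1 h3
  · exact ⟨z, hz, by rw [← hr1]; exact e⟩

theorem DD_eq [Finite G] {x y : G} (hx : x ∈ t.DD) (hx1 : x ≠ 1) (hy : y ∈ t.DD) (hy1 : y ≠ 1) : x = y := by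
  obtain ⟨z, hz, e⟩ := t.DD_mem hx hx1
  obtain ⟨z', hz', e'⟩ := t.DD_mem hy hy1
  have hxx := t.Y_sq (t.DD_Y hx)
  have hnY := t.s₁.R_Y i t.n_mem
  have hz'Y : z' ∈ YY (B₁ i) (C₁ i) := by rw [t.YY_eq_YY]; exact mem_iInf.1 hz' j
  have hzY : z ∈ YY (B₁ i) (C₁ i) := by rw [t.YY_eq_YY]; exact mem_iInf.1 hz j
  have h1 : x * y = z * z' := by
    rw [e, e']
    calc n * z * (n * z') = n * (z * n) * z' := by group
      _ = n * (n * z) * z' := by rw [t.Y_comm hzY hnY]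
      _ = z * z' := by rw [← mul_assoc, t.nsq, one_mul]
  have h2 : x * y ∈ t.DD ⊓ (⨅ m, YY (B₂ m) (C₂ m)) := ⟨mul_mem hx hy, by rw [h1]; exact mul_mem hz hz'⟩
  rw [t.DD_inf, mem_bot] at h2
  calc x = x * y * y⁻¹ := by group
    _ = y⁻¹ := by rw [h2, one_mul]
    _ = y := inv_eq_of_mul_eq_one_left (t.Y_sq (t.DD_Y hy))

theorem nd_ne_one : n * d ≠ 1 := by
  intro h
  have h1 : d = n⁻¹ := (inv_eq_of_mul_eq_one_right h).symm
  have h2 : d = n := by rw [h1]; exact inv_eq_of_mul_eq_one_left t.nsq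
  have h3 := t.s₂.D_R (i := j) t.dD (by rw [← t.hR, h2]; exact t.n_mem)
  exact t.n1 (by rw [← h2, h3])

/-- **(6)** `N_G(⟨n⟩)` centralises `u = n d ∈ D₁` -/
theorem main [Finite G] : n * d ∈ (⨅ m, YY (B₁ m) (C₁ m)) ∧
    ∀ h ∈ normalizer (R₁ i : Set G), h * (n * d) * h⁻¹ = n * d := by
  refine ⟨t.DD_le t.nd_DD, fun h hh => ?_⟩
  refine t.DD_eq (t.DD_conj hh t.nd_DD) ?_ t.nd_DD t.nd_ne_one
  intro h1
  apply t.nd_ne_one
  calc n * d = h⁻¹ * (h * (n * d) * h⁻¹) * h := by group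
    _ = 1 := by rw [h1]; group

end HcD

end Cfsg.Agent.Omega.IId.SwCv.NatM
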