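import Cfsg.Agent.Omega.IId.SwCv.NatM.FourL
import Cfsg.Agent.Omega.IId.SwCv.NatM.OneT
import Cfsg.Agent.Omega.IId.SwCv.ConcNat
import Cfsg.Agent.Omega.IId.Cv.MixPlug
import Cfsg.Agent.Omega.IId.Cv.MixEnd

/-!
# II.d, SwCv, natural partner with one or two factors: the instance of the one-sided MIX (helper639)

`P` of type `S_{2^m+1} wr ..` with F1, `P'` with `k' = 1, 2` natural factors, `q = 2`, `[V_P, V_{P'}] = ⟨n⟩`
(helper714's `TN`), `W = fac N i'`, `l = {1, n, n₁, n₂}` a line of duads of the summand `i` through `n`.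

* `vier u v` : the four-group `{1, u, v, u v}`; `fourL_of` : `FourL`;
* `Mxd` : the mixed case: `W` commutes with `W^h`, `V_P` with `V_P^h`, `h ∈ C_G(n)`;
* `Mxd.oneT` : `OneT` for `l`, `W`, `B = ⟨W^H⟩`, `C = ⟨V_P^H⟩` and a Sylow 2-subgroup `T` of `C_G(n)` in `N_G(W)`;
* `Mxd.exists_T` : such a `T` exists if `k' = 1` or `D' ≠ 1`.
-/

set_option autoImplicit false
set_option linter.unusedSectionVars false

namespace Cfsg.Agent.Omega.IId.SwCv.NatM

open Subgroup Cfsg Cfsg.Agent.Lib.SL2Mat Cfsg.Agent.MinSimple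
open Cfsg.Agent.ZN (o2 zc zl)
open Cfsg.Agent.Omega.MinPar Cfsg.Agent.Omega.FFThm
open Cfsg.Agent.Omega.FrameFF (cv)
open Cfsg.Agent.Omega.BTwo (cj mem_cj conj_mem_cj cj_mono cj_eq_self_iff mem_normalizer_of_conj)
open Cfsg.Agent.Omega.Mix (LL LL_le V_le_LL cj_le_LL Char2 YY mem_YY ST)
open Cfsg.Agent.Omega.MixOne (SideW)
open Cfsg.Agent.Omega.IId.Cv (UnM)
open Lb (SwA)
open scoped commutatorElement

universe u

/-! ### Four-groups -/

section vier

variable {G : Type*} [Group G]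

/-- the four-group `{1, u, v, u v}` -/
def vier (u v : G) (hu : u * u = 1) (hv : v * v = 1) (hc : u * v = v * u) : Subgroup G where
  carrier := {x | x = 1 ∨ x = u ∨ x = v ∨ x = u * v}
  one_mem' := Or.inl rfl
  mul_mem' := by
    have e1 : v * u = u * v := hc.symm
    have e2 : u * (u * v) = v := by rw [← mul_assoc, hu, one_mul]
    have e3 : v * (u * v) = u := by rw [hc, ← mul_assoc, hv, one_mul]
    have e4 : u * v * u = v := by rw [mul_assoc, e1, e2]
    have e5 : u * v * v = u := by rw [mul_assoc, hv, mul_one]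
    have e6 : u * v * (u * v) = 1 := by rw [← mul_assoc, e4, hv]
    rintro x y (rfl | rfl | rfl | rfl) (rfl | rfl | rfl | rfl)
    · exact Or.inl (mul_one 1)
    · exact Or.inr (Or.inl (one_mul _))
    · exact Or.inr (Or.inr (Or.inl (one_mul _)))
    · exact Or.inr (Or.inr (Or.inr (one_mul _)))
    · exact Or.inr (Or.inl (mul_one _))
    · exact Or.inl hu
    · exact Or.inr (Or.inr (Or.inr rfl))
    · exact Or.inr (Or.inr (Or.inl e2))
    · exact Or.inr (Or.inr (Or.inl (mul_one _)))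
    · exact Or.inr (Or.inr (Or.inr e1))
    · exact Or.inl hv
    · exact Or.inr (Or.inl e3)
    · exact Or.inr (Or.inr (Or.inr (mul_one _)))
    · exact Or.inr (Or.inr (Or.inl e4))
    · exact Or.inr (Or.inl e5)
    · exact Or.inl e6
  inv_mem' := by
    rintro x (rfl | rfl | rfl | rfl)
    · exact Or.inl inv_one
    · exact Or.inr (Or.inl (inv_eq_of_mul_eq_one_left hu))
    · exact Or.inr (Or.inr (Or.inl (inv_eq_of_mul_eq_one_left hv)))
    · refine Or.inr (Or.inr (Or.inr ?_))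
      rw [mul_inv_rev, inv_eq_of_mul_eq_one_left hu, inv_eq_of_mul_eq_one_left hv, hc]

theorem mem_vier {u v : G} {hu : u * u = 1} {hv : v * v = 1} {hc : u * v = v * u} {x : G} :
    x ∈ vier u v hu hv hc ↔ x = 1 ∨ x = u ∨ x = v ∨ x = u * v := Iff.rfl

/-- `FourL` from `V = {1, u, v, u v}` -/
theorem fourL_of {V : Subgroup G} {u v g₁ g₂ : G} (hu : u * u = 1) (hv : v * v = 1) (hc : u * v = v * u)
    (hu1 : u ≠ 1) (hv1 : v ≠ 1) (huv : u ≠ v) (hV : ∀ x, x ∈ V ↔ x = 1 ∨ x = u ∨ x = v ∨ x = u * v)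
    (h₁ : g₁ ∈ normalizer (V : Set G)) (h₂ : g₂ ∈ normalizer (V : Set G)) (e₁ : g₁ * u * g₁⁻¹ = v)
    (e₂ : g₂ * u * g₂⁻¹ = u * v) : FourL V ![u, v, u * v] ![1, g₁, g₂] where
  sq := by
    intro i
    fin_cases i
    · exact hu
    · exact hv
    · change u * v * (u * v) = 1
      calc u * v * (u * v) = u * (v * u) * v := by group
        _ = u * (u * v) * v := by rw [← hc]
        _ = (u * u) * (v * v) := by group
        _ = 1 := by rw [hu, hv, one_mul]
  ne := by
    intro i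
    fin_cases i
    · exact hu1
    · exact hv1
    · change u * v ≠ 1
      intro h
      apply huv
      rw [← inv_eq_of_mul_eq_one_left hv]
      exact eq_inv_of_mul_eq_one_left h
  mul := by
    have e1 : v * u = u * v := hc.symm
    have e2 : u * (u * v) = v := by rw [← mul_assoc, hu, one_mul]
    have e3 : v * (u * v) = u := by rw [hc, ← mul_assoc, hv, one_mul]
    have e4 : u * v * u = v := by rw [mul_assoc, e1, e2]
    have e5 : u * v * v = u := by rw [mul_assoc, hv, mul_one]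
    intro i j k hij hjk hik
    fin_cases i <;> fin_cases j <;> fin_cases k <;>
      first
        | exact absurd rfl hij
        | exact absurd rfl hjk
        | exact absurd rfl hik
        | exact rfl
        | exact e1
        | exact e2
        | exact e3
        | exact e4
        | exact e5
  mem := by
    intro x
    rw [hV]
    constructor
    · rintro (h | h | h | h)
      · exact Or.inl h
      · exact Or.inr ⟨0, h⟩
      · exact Or.inr ⟨1, h⟩
      · exact Or.inr ⟨2, h⟩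
    · rintro (h | ⟨i, h⟩)
      · exact Or.inl h
      · fin_cases i
        · exact Or.inr (Or.inl h)
        · exact Or.inr (Or.inr (Or.inl h))
        · exact Or.inr (Or.inr (Or.inr h))
  norm := by
    intro i
    fin_cases i
    · exact one_mem _
    · exact h₁
    · exact h₂
  act := by
    intro i
    fin_cases i
    · change 1 * u * 1⁻¹ = u
      group
    · exact e₁
    · exact e₂

end vier

/-! ### The line of duads -/

section duads

variable {G : Type u} [Group G] {T H V D : Subgroup G} {k m : ℕ} {M : SymK T H V D k m}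
  {ε : Fin k → (Fin (2 ^ m + 1) → ZMod 2) → G}

/-- `l = {1, {a,b}, {a,c}, {b,c}}` -/
def lin (h : Lb M ε) (i : Fin k) (a b c : Fin (2 ^ m + 1)) : Subgroup G :=
  vier (du ε i a b) (du ε i a c) (h.du_mul_self i a b) (h.du_mul_self i a c)
    (h.comm _ (h.du_mem i a b) _ (h.du_mem i a c))

/-- the points of `l` -/
def rl (ε : Fin k → (Fin (2 ^ m + 1) → ZMod 2) → G) (i : Fin k) (a b c : Fin (2 ^ m + 1)) : Fin 3 → G :=
  ![du ε i a b, du ε i a c, du ε i a b * du ε i a c]

variable (h : Lb M ε)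
include h

theorem du_mul' (i : Fin k) (a b c : Fin (2 ^ m + 1)) : du ε i a b * du ε i a c = du ε i b c := by
  rw [← h.du_mul i b c a, Lb.du_comm i a b, Lb.du_comm i a c]

theorem mem_lin {i : Fin k} {a b c : Fin (2 ^ m + 1)} {x : G} :
    x ∈ lin h i a b c ↔ x = 1 ∨ x = du ε i a b ∨ x = du ε i a c ∨ x = du ε i b c := by
  rw [lin, mem_vier, du_mul' h]

theorem lin_le (i : Fin k) (a b c : Fin (2 ^ m + 1)) : lin h i a b c ≤ V := by
  intro x hx
  rcases (mem_lin h).1 hx with rfl | rfl | rfl | rfl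
  · exact one_mem _
  · exact h.du_mem _ _ _
  · exact h.du_mem _ _ _
  · exact h.du_mem _ _ _

theorem du_injL {i : Fin k} {a b c : Fin (2 ^ m + 1)} (hbc : b ≠ c) : du ε i a b ≠ du ε i a c := by
  intro h0
  have h1 := h.du_ne_one (i := i) hbc
  apply h1
  rw [← du_mul' h i a b c, h0]
  exact h.du_mul_self i a c

/-- an element permuting the summand `i` and `{a, b, c}` normalises the line -/
theorem norm_lin [Finite G] {g : G} (hg : g ∈ H) {σ : Equiv.Perm (Fin k)} {τ : Fin k → Equiv.Perm (Fin (2 ^ m + 1))}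
    (ha : ActsSym M.e V g σ τ) {i : Fin k} (hσ : σ i = i) {a b c : Fin (2 ^ m + 1)}
    (h1 : du ε i (τ i a) (τ i b) ∈ lin h i a b c) (h2 : du ε i (τ i a) (τ i c) ∈ lin h i a b c)
    (h3 : du ε i (τ i b) (τ i c) ∈ lin h i a b c) : g ∈ normalizer (lin h i a b c : Set G) := by
  refine mem_normalizer_of_conj fun x hx => ?_
  rcases (mem_lin h).1 hx with rfl | rfl | rfl | rfl
  · rw [mul_one, mul_inv_cancel]
    exact one_mem _
  · rw [h.conj_du hg ha, hσ]; exact h1
  · rw [h.conj_du hg ha, hσ]; exact h2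
  · rw [h.conj_du hg ha, hσ]; exact h3

theorem exists_lift_swap [Finite G] {i : Fin k} {a b c : Fin (2 ^ m + 1)} {x y : Fin (2 ^ m + 1)}
    (hx : du ε i (Equiv.swap x y a) (Equiv.swap x y b) ∈ lin h i a b c)
    (hy : du ε i (Equiv.swap x y a) (Equiv.swap x y c) ∈ lin h i a b c)
    (hz : du ε i (Equiv.swap x y b) (Equiv.swap x y c) ∈ lin h i a b c) :
    ∃ g ∈ H, g ∈ normalizer (lin h i a b c : Set G) ∧
      g * du ε i a b * g⁻¹ = du ε i (Equiv.swap x y a) (Equiv.swap x y b) := by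
  obtain ⟨g, hg, ha, -⟩ := M.lift fun _ => Equiv.swap x y
  exact ⟨g, hg, norm_lin h hg ha rfl hx hy hz, h.conj_du hg ha i a b⟩

theorem exists_fourL [Finite G] {i : Fin k} {a b c : Fin (2 ^ m + 1)} (hab : a ≠ b) (hac : a ≠ c) (hbc : b ≠ c) :
    ∃ g, FourL (lin h i a b c) ![du ε i a b, du ε i a c, du ε i a b * du ε i a c] g := by
  have e1 : (Equiv.swap b c) a = a := Equiv.swap_apply_of_ne_of_ne hab hac
  have e2 : (Equiv.swap a c) b = b := Equiv.swap_apply_of_ne_of_ne hab.symm hbc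
  obtain ⟨g₁, -, h1, h1'⟩ := exists_lift_swap h (i := i) (a := a) (b := b) (c := c) (x := b) (y := c)
    (by rw [e1, Equiv.swap_apply_left]; exact (mem_lin h).2 (Or.inr (Or.inr (Or.inl rfl))))
    (by rw [e1, Equiv.swap_apply_right]; exact (mem_lin h).2 (Or.inr (Or.inl rfl)))
    (by rw [Equiv.swap_apply_left, Equiv.swap_apply_right, Lb.du_comm]
        exact (mem_lin h).2 (Or.inr (Or.inr (Or.inr rfl))))
  obtain ⟨g₂, -, h2, h2'⟩ := exists_lift_swap h (i := i) (a := a) (b := b) (c := c) (x := a) (y := c)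
    (by rw [e2, Equiv.swap_apply_left, Lb.du_comm]; exact (mem_lin h).2 (Or.inr (Or.inr (Or.inr rfl))))
    (by rw [Equiv.swap_apply_left, Equiv.swap_apply_right, Lb.du_comm]
        exact (mem_lin h).2 (Or.inr (Or.inr (Or.inl rfl))))
    (by rw [e2, Equiv.swap_apply_right, Lb.du_comm]; exact (mem_lin h).2 (Or.inr (Or.inl rfl)))
  refine ⟨![1, g₁, g₂], fourL_of (h.du_mul_self i a b) (h.du_mul_self i a c)
    (h.comm _ (h.du_mem i a b) _ (h.du_mem i a c)) (h.du_ne_one hab) (h.du_ne_one hac) (du_injL h hbc)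
    (fun x => Iff.rfl) h1 h2 ?_ ?_⟩
  · rw [h1', e1, Equiv.swap_apply_left]
  · rw [h2', e2, Equiv.swap_apply_left, Lb.du_comm, du_mul' h]

end duads

/-! ### The natural side -/

section nat

variable {G : Type u} [Group G] [Finite G] {F : Type} [Field F] [Finite F] [CharP F 2] {S : Sylow 2 G}
  {P V D : Subgroup G} {k : ℕ} (N : NatD F S P V D k)

/-- `|F| = 2` : `fac N i = {1, n, b, n b}`, `grp N {i}` maps `n` to `b` and `n b` -/
theorem exists_fourN (hF : Nat.card F = 2) (i : Fin k) {n : G} (hn : n ∈ NV.line N.toNatV i) (hn1 : n ≠ 1) :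
    ∃ b ∈ NV.fac N.toNatV i, N.e b i 1 ≠ 0 ∧ ∃ g, FourL (NV.fac N.toNatV i) ![n, b, n * b] g := by
  have h01 := zero_or_one hF
  obtain ⟨b, hb, heb⟩ := NV.exists_fac N.toNatV i ![0, 1]
  obtain ⟨hnf, hne⟩ := (NV.mem_line _).1 hn
  have hn0 : N.e n i 0 = 1 := by
    rcases h01 (N.e n i 0) with h | h
    · exact absurd ((NV.fac_eq_one N.toNatV hnf).1 (NatPair.ext2 h hne)) hn1
    · exact h
  have eb0 : N.e b i 0 = 0 := by rw [heb]; rfl
  have eb1 : N.e b i 1 = 1 := by rw [heb]; rfl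
  have hb1 : b ≠ 1 := by
    rintro rfl
    have h1 := NV.e_one N.toNatV
    rw [h1] at eb1
    exact zero_ne_one eb1
  have hnb : n ≠ b := by
    rintro rfl
    rw [hne] at eb1
    exact zero_ne_one eb1
  have hc : n * b = b * n := NV.comm N.toNatV hnf.1 hb.1
  have hnn : n * n = 1 := NV.sq N.toNatV hnf.1
  have hbb : b * b = 1 := NV.sq N.toNatV hb.1
  have henb : N.e (n * b) i = N.e n i + N.e b i := by
    rw [N.mul _ hnf.1 _ hb.1]; rfl
  have hnb1 : n * b ≠ 1 := by
    intro h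
    apply hnb
    rw [← inv_eq_of_mul_eq_one_left hbb]
    exact eq_inv_of_mul_eq_one_left h
  obtain ⟨g₁, hg₁, e₁⟩ := NV.exists_grp N.toNatV hnf hb hn1 hb1
  obtain ⟨g₂, hg₂, e₂⟩ := NV.exists_grp N.toNatV hnf (mul_mem hnf hb) hn1 hnb1
  refine ⟨b, hb, by rw [eb1]; exact one_ne_zero, ![1, g₁, g₂], fourL_of hnn hbb hc hn1 hb1 hnb (fun x => ?_)
    (NV.grp_normalizes N.toNatV {i} {i} hg₁) (NV.grp_normalizes N.toNatV {i} {i} hg₂) e₁ e₂⟩
  constructor
  · intro hx
    rcases h01 (N.e x i 0) with h0 | h0 <;> rcases h01 (N.e x i 1) with h1 | h1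
    · exact Or.inl ((NV.fac_eq_one N.toNatV hx).1 (NatPair.ext2 h0 h1))
    · refine Or.inr (Or.inr (Or.inl (NV.ext_fac N.toNatV hx hb (NatPair.ext2 ?_ ?_))))
      · rw [h0, eb0]
      · rw [h1, eb1]
    · refine Or.inr (Or.inl (NV.ext_fac N.toNatV hx hnf (NatPair.ext2 ?_ ?_)))
      · rw [h0, hn0]
      · rw [h1, hne]
    · refine Or.inr (Or.inr (Or.inr (NV.ext_fac N.toNatV hx (mul_mem hnf hb) (NatPair.ext2 ?_ ?_))))
      · rw [h0, henb, Pi.add_apply, hn0, eb0, add_zero]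
      · rw [h1, henb, Pi.add_apply, hne, eb1, zero_add]
  · rintro (rfl | rfl | rfl | rfl)
    · exact one_mem _
    · exact hnf
    · exact hb
    · exact mul_mem hnf hb

end nat

/-! ### The mixed case -/

section mxd

variable {G : Type u} [Group G] [Finite G] {S S' : Sylow 2 G} {P P' : Subgroup G} {D V' D' : Subgroup G} {k m : ℕ}
  {M : SymK (S : Subgroup G) P (zl (S : Subgroup G) P) D k m} {ε : Fin k → (Fin (2 ^ m + 1) → ZMod 2) → G}
  {F' : Type} [Field F'] [Finite F'] [CharP F' 2] {k' : ℕ} {N : NatD F' S' P' V' D' k'} {i : Fin k}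
  {a b : Fin (2 ^ m + 1)} {i' : Fin k'}

/-- the mixed case -/
structure Mxd (S S' : Sylow 2 G) (P P' : Subgroup G) {D V' D' : Subgroup G}
    (M : SymK (S : Subgroup G) P (zl (S : Subgroup G) P) D k m) (ε : Fin k → (Fin (2 ^ m + 1) → ZMod 2) → G)
    (N : NatD F' S' P' V' D' k') (i : Fin k) (a b : Fin (2 ^ m + 1)) (i' : Fin k') : Prop
    extends TN S S' P P' M ε N i a b i' where
  lb : Lb M ε
  one : FOne M ε
  k12 : k' = 1 ∨ k' = 2
  comm' : ∀ g ∈ centralizer ({du ε i a b} : Set G), ∀ v ∈ NV.fac N.toNatV i', ∀ w ∈ NV.fac N.toNatV i',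
    v * (g * w * g⁻¹) = g * w * g⁻¹ * v
  commV : ∀ g ∈ centralizer ({du ε i a b} : Set G), ∀ v ∈ zl (S : Subgroup G) P, ∀ w ∈ zl (S : Subgroup G) P,
    v * (g * w * g⁻¹) = g * w * g⁻¹ * v

namespace Mxd

variable (t : Mxd S S' P P' M ε N i a b i')
include t

theorem n_ne : du ε i a b ≠ 1 := t.lb.du_ne_one t.ne

theorem n_line : du ε i a b ∈ NV.line N.toNatV i' := (t.mem_line _).2 (Or.inr rfl)

theorem n_fac : du ε i a b ∈ NV.fac N.toNatV i' := NV.line_le _ _ t.n_line

theorem line_eq : NV.line N.toNatV i' = zpowers (du ε i a b) := by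
  ext z
  rw [t.mem_line, mem_zpowers_iff]
  constructor
  · rintro (rfl | rfl)
    · exact ⟨0, zpow_zero _⟩
    · exact ⟨1, zpow_one _⟩
  · rintro ⟨n, rfl⟩
    exact Cv.TwoA.zpow_cases (t.lb.du_mul_self i a b) (zpow_mem (mem_zpowers _) n)

theorem norm_eq : normalizer (zpowers (du ε i a b) : Set G) = centralizer ({du ε i a b} : Set G) := by
  rw [← t.line_eq]
  exact t.toTN.normalizer_line t.lb

theorem fac_le_zl : NV.fac N.toNatV i' ≤ zl (S' : Subgroup G) P' := (NV.fac_le _ _).trans N.V_le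

theorem fac_o2 : NV.fac N.toNatV i' ≤ o2 (normalizer (zpowers (du ε i a b) : Set G)) := by
  rw [t.norm_eq]
  exact t.fac_le_zl.trans (t.toTN.le_o2 t.lb t.k12)

theorem V_KX : zl (S : Subgroup G) P ≤ NV.KX (zpowers (du ε i a b)) := by
  intro v hv
  refine NV.mem_KX.2 ⟨fun y hy => ?_, fun q hq => ?_⟩
  · obtain ⟨n, rfl⟩ := mem_zpowers_iff.1 hy
    exact (Commute.zpow_right (t.lb.comm v hv _ (t.lb.du_mem i a b)) n)
  · rw [t.norm_eq] at hq
    have h1 := t.one.comm i a b t.ne q hq v hv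
    have e : v * q * v⁻¹ * q⁻¹ = (⁅q, v⁆)⁻¹ := by rw [commutatorElement_def]; group
    rw [e]
    refine inv_mem ?_
    rcases h1 with h1 | h1
    · rw [h1]; exact one_mem _
    · rw [h1]; exact mem_zpowers _

theorem V_o2 : zl (S : Subgroup G) P ≤ o2 (normalizer (zpowers (du ε i a b) : Set G)) := by
  rw [t.norm_eq]
  exact t.one.le i a b t.ne

/-- `⟨W^H⟩ ≤ O₂(H)` -/
theorem LLW_o2 : LL (NV.fac N.toNatV i') (zpowers (du ε i a b)) (zpowers (du ε i a b)) ≤
    o2 (normalizer (zpowers (du ε i a b) : Set G)) := by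
  refine LL_le fun g hg => ?_
  rintro _ ⟨v, hv, rfl⟩
  exact (mem_normalizer_iff.1 (VModule.le_normalizer_o2 _ (cj_eq_self_iff.1 hg)) v).1 (t.fac_o2 hv)

theorem LLV_o2 : LL (zl (S : Subgroup G) P) (zpowers (du ε i a b)) (zpowers (du ε i a b)) ≤
    o2 (normalizer (zpowers (du ε i a b) : Set G)) := by
  refine LL_le fun g hg => ?_
  rintro _ ⟨v, hv, rfl⟩
  exact (mem_normalizer_iff.1 (VModule.le_normalizer_o2 _ (cj_eq_self_iff.1 hg)) v).1 (t.V_o2 hv)

theorem LLV_KX : LL (zl (S : Subgroup G) P) (zpowers (du ε i a b)) (zpowers (du ε i a b)) ≤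
    NV.KX (zpowers (du ε i a b)) := by
  refine LL_le fun g hg => ?_
  rintro _ ⟨v, hv, rfl⟩
  exact (mem_normalizer_iff.1 (NV.normalizer_le_normalizer_KX _ (cj_eq_self_iff.1 hg)) v).1 (t.V_KX hv)

theorem LLW_comm : ∀ x ∈ LL (NV.fac N.toNatV i') (zpowers (du ε i a b)) (zpowers (du ε i a b)),
    ∀ y ∈ LL (NV.fac N.toNatV i') (zpowers (du ε i a b)) (zpowers (du ε i a b)), x * y = y * x :=
  M4.LL_comm fun g hg => t.comm' g (t.norm_eq ▸ hg)

theorem LLV_comm : ∀ x ∈ LL (zl (S : Subgroup G) P) (zpowers (du ε i a b)) (zpowers (du ε i a b)),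
    ∀ y ∈ LL (zl (S : Subgroup G) P) (zpowers (du ε i a b)) (zpowers (du ε i a b)), x * y = y * x :=
  M4.LL_comm fun g hg => t.commV g (t.norm_eq ▸ hg)

/-- `w ∈ W` outside the line exchanges `{a,c}` and `{b,c}` -/
theorem move {w : G} (hw : w ∈ NV.fac N.toNatV i') (hw1 : N.e w i' 1 ≠ 0) {c : Fin (2 ^ m + 1)} (hca : c ≠ a)
    (hcb : c ≠ b) : w * du ε i a c * w⁻¹ = du ε i b c := by
  have hwP : w ∈ P := (t.pair.le.trans t.pair.star.le) (t.fac_le_zl hw)
  have h1 := t.lb.conj_du hwP (t.sw w hw hw1) i a c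
  rw [Function.update_self, Equiv.swap_apply_left, Equiv.swap_apply_of_ne_of_ne hca hcb] at h1
  exact h1

theorem ne_comm {w : G} (hw : w ∈ NV.fac N.toNatV i') (hw1 : N.e w i' 1 ≠ 0) {c : Fin (2 ^ m + 1)} (hca : c ≠ a)
    (hcb : c ≠ b) : w * du ε i a c ≠ du ε i a c * w := by
  intro h
  have h1 := t.move hw hw1 hca hcb
  rw [h, mul_inv_cancel_right, Lb.du_comm i a c, Lb.du_comm i b c] at h1
  exact du_injL t.lb t.ne h1

/-- **The side of `l`.** -/
theorem lnD_l {c : Fin (2 ^ m + 1)} (hca : c ≠ a) (hcb : c ≠ b) :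
    ∃ g, LnD (lin t.lb i a b c) (NV.fac N.toNatV i') (zl (S : Subgroup G) P) (rl ε i a b c) g := by
  obtain ⟨g, hg⟩ := exists_fourL t.lb (i := i) t.ne hca.symm hcb.symm
  obtain ⟨w, hw, hw1⟩ : ∃ w ∈ NV.fac N.toNatV i', N.e w i' 1 ≠ 0 := by
    obtain ⟨w, hw, he⟩ := NV.exists_fac N.toNatV i' ![0, 1]
    exact ⟨w, hw, by rw [he]; exact one_ne_zero⟩
  exact ⟨g, { toFourL := hg
              V_Z := lin_le t.lb i a b c
              r_U := t.n_fac
              U_comm := t.LLW_comm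
              Z_comm := t.LLV_comm
              U_sq := fun x hx => NV.sq N.toNatV hx.1
              Z_sq := fun x hx => t.lb.mul_self hx
              ZU := fun x hx y hy => (NV.mem_KX.1 (t.LLV_KX hx)).2 y (t.LLW_o2 hy)
              mv := ⟨w, V_le_LL _ _ hw, _, (mem_lin t.lb).2 (Or.inr (Or.inr (Or.inl rfl))),
                t.ne_comm hw hw1 hca hcb⟩ }⟩

/-- **The side of `W`.** -/
theorem lnD_W : ∃ e ∈ NV.fac N.toNatV i', N.e e i' 1 ≠ 0 ∧ ∃ g, LnD (NV.fac N.toNatV i') (zl (S : Subgroup G) P)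
    (NV.fac N.toNatV i') ![du ε i a b, e, du ε i a b * e] g := by
  obtain ⟨e, he, he1, g, hg⟩ := exists_fourN N t.cardF i' t.n_line t.n_ne
  obtain ⟨c, hca, hcb⟩ := Half.SymA.exists_third t.lb.hm a b
  refine ⟨e, he, he1, g, { toFourL := hg
                           V_Z := le_rfl
                           r_U := t.lb.du_mem i a b
                           U_comm := t.LLV_comm
                           Z_comm := t.LLW_comm
                           U_sq := fun x hx => t.lb.mul_self hx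
                           Z_sq := fun x hx => NV.sq N.toNatV hx.1
                           ZU := fun x hx y hy => ?_
                           mv := ⟨_, V_le_LL _ _ (t.lb.du_mem i a c), e, he, fun h => t.ne_comm he he1 hca hcb h.symm⟩ }⟩
  have h1 := inv_mem ((NV.mem_KX.1 (t.LLV_KX hy)).2 x (t.LLW_o2 hx))
  have e1 : (y * x * y⁻¹ * x⁻¹)⁻¹ = x * y * x⁻¹ * y⁻¹ := by group
  rwa [e1] at h1

/-- (NL) -/
theorem nl {c : Fin (2 ^ m + 1)} (hca : c ≠ a) (hcb : c ≠ b) {K : Subgroup G} (hK : IsPGroup 2 K)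
    (h1 : normalizer (lin t.lb i a b c : Set G) ≤ normalizer (K : Set G))
    (h2 : normalizer (NV.fac N.toNatV i' : Set G) ≤ normalizer (K : Set G)) : K = ⊥ := by
  by_contra hK1
  obtain ⟨h3, h4⟩ := NV.fac_le_center' t.k12 N i' hK hK1 (le_trans (fun _ hg => (M4.mem_nmG.1 hg).1) h2)
  obtain ⟨g, d⟩ := t.lnD_l hca hcb
  obtain ⟨w, hw, he⟩ := NV.exists_fac N.toNatV i' ![0, 1]
  have hr : ∀ j, rl ε i a b c j ∈ o2 (normalizer (K : Set G)) := by
    intro j
    rw [← d.act j]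
    exact (mem_normalizer_iff.1 (VModule.le_normalizer_o2 _ (h1 (d.norm j))) _).1 (h3 t.n_fac)
  exact t.ne_comm hw (by rw [he]; exact one_ne_zero) hca hcb (mem_centralizer_iff.1 (h4 (hr 1)) w hw)

/-- **The one-sided MIX.** -/
theorem oneT {c : Fin (2 ^ m + 1)} (hca : c ≠ a) (hcb : c ≠ b) {e : G} {g : Fin 3 → G}
    (hW : LnD (NV.fac N.toNatV i') (zl (S : Subgroup G) P) (NV.fac N.toNatV i') ![du ε i a b, e, du ε i a b * e] g)
    {T : Subgroup G} (hT : T ≤ normalizer (NV.fac N.toNatV i' : Set G))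
    (hTn : T ≤ centralizer ({du ε i a b} : Set G))
    (ho : ¬ 2 ∣ T.relIndex (centralizer ({du ε i a b} : Set G))) :
    OneT (lin t.lb i a b c) (NV.fac N.toNatV i') (pts (rl ε i a b c))
      (fun j => LL (NV.fac N.toNatV i') (zpowers (du ε i a b)) (pts (rl ε i a b c) j))
      (fun j => LL (zl (S : Subgroup G) P) (zpowers (du ε i a b)) (pts (rl ε i a b c) j))
      (pts ![du ε i a b, e, du ε i a b * e])
      (fun j => LL (zl (S : Subgroup G) P) (zpowers (du ε i a b)) (pts ![du ε i a b, e, du ε i a b * e] j))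
      (fun j => LL (NV.fac N.toNatV i') (zpowers (du ε i a b)) (pts ![du ε i a b, e, du ε i a b * e] j)) 0 0 T := by
  obtain ⟨g', d⟩ := t.lnD_l hca hcb
  have hR : pts (rl ε i a b c) 0 = zpowers (du ε i a b) := rfl
  have hn2 : IsPGroup 2 (zpowers (du ε i a b)) := by
    refine S.isPGroup'.to_le ?_
    rw [zpowers_le]
    exact t.lb.VT (t.lb.du_mem i a b)
  exact
  { s₁ := d.side
    s₂ := hW.side
    hR := rfl
    hB := rfl
    hC := rfl
    ch := Mix.char2_normalizer N.hG hn2 (by rw [hR, Ne, zpowers_eq_bot]; exact t.n_ne)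
    NL := fun K hK h1 h2 _ => t.nl hca hcb hK (d.toFourL.le_ST.trans h1) (hW.toFourL.le_ST.trans h2)
    SV₂ := hT.trans hW.toFourL.le_ST
    SR := by
      rw [hR, t.norm_eq]
      exact hTn
    odd := by
      rw [hR, t.norm_eq]
      exact ho
    gen₂ := fun K hK => LL_le fun h hh => hK h (cj_eq_self_iff.1 hh) }

/-- a Sylow 2-subgroup of `C_G(n)` in `N_G(W)` -/
theorem exists_T (hD' : k' = 1 ∨ D' ≠ ⊥) : ∃ T : Subgroup G, IsPGroup 2 T ∧
    T ≤ normalizer (NV.fac N.toNatV i' : Set G) ∧ T ≤ centralizer ({du ε i a b} : Set G) ∧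
      ¬ 2 ∣ T.relIndex (centralizer ({du ε i a b} : Set G)) := by
  obtain ⟨c, hca, hcb⟩ := Half.SymA.exists_third t.lb.hm a b
  obtain ⟨w, hw, he⟩ := NV.exists_fac N.toNatV i' ![0, 1]
  have hne := t.ne_comm hw (by rw [he]; exact one_ne_zero) hca hcb
  have hV := t.V_KX (t.lb.du_mem i a c)
  have hN := t.toTN.normalizer_line t.lb
  rw [← hN]
  have hl := t.line_eq
  rw [← hl] at hV
  rcases t.k12 with rfl | rfl
  · have h1 := NV.S_le_line N i'
    exact ⟨S', S'.isPGroup', (NV.SP N).trans (NV.P_le_fac N i'), h1, MinSimple.Basic.not_dvd_relIndex S' h1⟩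
  · by_cases hd : 2 ∣ (NV.stab N.toNatV i').relIndex (normalizer (NV.line N.toNatV i' : Set G))
    · obtain ⟨T₁, h1, h2⟩ := NV.exists_norm N t.cardF (hD'.resolve_left (by norm_num)) ⟨_, hV, w, hw, hne.symm⟩ hd
      exact ⟨T₁, T₁.isPGroup', h1, h2, MinSimple.Basic.not_dvd_relIndex T₁ h2⟩
    · exact ⟨_, S'.isPGroup'.to_le (NV.stab_le _ _), NV.stab_normalizes _ _,
        NV.stab_normalizes_line N.toNatV (NV.SP N) i', hd⟩

end Mxd

end mxd

end Cfsg.Agent.Omega.IId.SwCv.NatM
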