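import Cfsg.Agent.Omega.IId.OneBase

/-!
# (SYM) of helper48 #20133 (project OMEGA, II.d, SwCv)

`M` with a normal elementary abelian 2-group `U` and a class `n^M ⊆ U`, `C_G(n) ≤ M`, `U ≤ O₂(C_G(n))`.
`Kk p = {k ∈ C_G(p) : [O₂(C_G(p)), k] ≤ ⟨p⟩}`.

* `Cls.sym` : for `p, q ∈ n^M`: if `Kk q` centralises `p`, then `Kk p` centralises `q`.
-/

set_option autoImplicit false
set_option linter.unusedSectionVars false

namespace Cfsg.Agent.Omega.IId.SwCv.NatM

open Subgroup Cfsg Cfsg.Agent.ZN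
open Cfsg.Agent.Omega.IId.One (Kk cz mem_cz Kk_conj conj_Kk conj_cz conj_o2_cz Kk_le le_normalizer_Kk)

universe u

variable {G : Type u} [Group G]

/-- a class of involutions of a normal elementary abelian subgroup `U` of `M` -/
structure ClsK (M U : Subgroup G) (n : G) : Prop where
  comm : ∀ a ∈ U, ∀ b ∈ U, a * b = b * a
  sq : ∀ a ∈ U, a * a = 1
  nor : ∀ g ∈ M, ∀ a ∈ U, g * a * g⁻¹ ∈ U
  mem : n ∈ U
  ne : n ≠ 1
  cen : cz n ≤ M
  le : U ≤ o2 (cz n)

/-- the class of `n` -/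
def PPc (M : Subgroup G) (n p : G) : Prop := ∃ g ∈ M, g * n * g⁻¹ = p

namespace ClsK

variable {M U : Subgroup G} {n : G} (h : ClsK M U n)

theorem pp_self (M : Subgroup G) (n : G) : PPc M n n := ⟨1, one_mem _, by group⟩

theorem pp_conj {p c : G} (hc : c ∈ M) (hp : PPc M n p) : PPc M n (c * p * c⁻¹) := by
  obtain ⟨g, hg, rfl⟩ := hp
  exact ⟨c * g, mul_mem hc hg, by group⟩

theorem pp_conj_of {p q : G} (hp : PPc M n p) (hq : PPc M n q) : ∃ c ∈ M, c * p * c⁻¹ = q := by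
  obtain ⟨g, hg, rfl⟩ := hp
  obtain ⟨k, hk, rfl⟩ := hq
  exact ⟨k * g⁻¹, mul_mem hk (inv_mem hg), by group⟩

include h

theorem pp_mem {p : G} (hp : PPc M n p) : p ∈ U := by
  obtain ⟨g, hg, rfl⟩ := hp
  exact h.nor g hg n h.mem

theorem pp_ne {p : G} (hp : PPc M n p) : p ≠ 1 := by
  obtain ⟨g, hg, rfl⟩ := hp
  exact fun h1 => h.ne (conj_eq_one_iff.1 h1)

theorem pp_cen {p : G} (hp : PPc M n p) : cz p ≤ M := by
  obtain ⟨g, hg, rfl⟩ := hp
  intro x hx
  have h1 : g⁻¹ * (g * n * g⁻¹) * g⁻¹⁻¹ = n := by group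
  have h2 := mul_mem (mul_mem hg (h.cen (conj_cz h1 hx))) (inv_mem hg)
  have e : g * (g⁻¹ * x * g⁻¹⁻¹) * g⁻¹ = x := by group
  rwa [e] at h2

theorem inv_mem_U {g v : G} (hg : g ∈ M) (hv : v ∈ U) : g⁻¹ * v * g ∈ U := by
  have := h.nor _ (inv_mem hg) v hv
  rwa [inv_inv] at this

theorem pp_le {p : G} (hp : PPc M n p) : U ≤ o2 (cz p) := by
  obtain ⟨g, hg, rfl⟩ := hp
  intro x hx
  have h1 := conj_o2_cz (rfl : g * n * g⁻¹ = g * n * g⁻¹) (h.le (h.inv_mem_U hg hx))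
  have e : g * (g⁻¹ * x * g) * g⁻¹ = x := by group
  rwa [e] at h1

theorem act {p k v : G} (hp : PPc M n p) (hk : k ∈ Kk p) (hv : v ∈ U) : k * v * k⁻¹ = v ∨ k * v * k⁻¹ = p * v :=
  Kk_conj (h.sq p (h.pp_mem hp)) hk (h.pp_le hp hv)

theorem act' {p k v : G} (hp : PPc M n p) (hk : k ∈ Kk p) (hv : v ∈ U) :
    k⁻¹ * v * k = v ∨ k⁻¹ * v * k = p * v := by
  have := h.act hp (inv_mem hk) hv
  rwa [inv_inv] at this

theorem K_mem {p k : G} (hp : PPc M n p) (hk : k ∈ Kk p) : k ∈ M := h.pp_cen hp (Kk_le p hk)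

end ClsK

/-- the centralisers in `U` of the elements of `Kk p` -/
def Fc (U : Subgroup G) (p : G) : Set (Set G) := {s | ∃ k ∈ Kk p, s = {v | v ∈ U ∧ k * v = v * k}}

namespace ClsK

variable {M U : Subgroup G} {n : G} (h : ClsK M U n)
include h

theorem card_le [Finite G] {p q : G} (hp : PPc M n p) (hq : PPc M n q) : (Fc U p).ncard ≤ (Fc U q).ncard := by
  obtain ⟨c, hc, e⟩ := pp_conj_of hp hq
  have hinj : Function.Injective fun s : Set G => {v | c⁻¹ * v * c ∈ s} := by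
    intro s t hst
    ext x
    have h1 := Set.ext_iff.1 hst (c * x * c⁻¹)
    simp only [Set.mem_ofPred_eq] at h1
    have e1 : c⁻¹ * (c * x * c⁻¹) * c = x := by group
    rwa [e1] at h1
  rw [← Set.ncard_image_of_injective (Fc U p) hinj]
  refine Set.ncard_le_ncard ?_ (Set.toFinite _)
  rintro _ ⟨s, ⟨k, hk, rfl⟩, rfl⟩
  refine ⟨c * k * c⁻¹, conj_Kk e hk, ?_⟩
  ext v
  simp only [Set.mem_ofPred_eq]
  refine and_congr ⟨fun h1 => ?_, fun h1 => h.inv_mem_U hc h1⟩ ⟨fun h1 => ?_, fun h1 => ?_⟩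
  · have h2 := h.nor c hc _ h1
    have e2 : c * (c⁻¹ * v * c) * c⁻¹ = v := by group
    rwa [e2] at h2
  · calc c * k * c⁻¹ * v = c * (k * (c⁻¹ * v * c)) * c⁻¹ := by group
      _ = c * (c⁻¹ * v * c * k) * c⁻¹ := by rw [h1]
      _ = v * (c * k * c⁻¹) := by group
  · calc k * (c⁻¹ * v * c) = c⁻¹ * (c * k * c⁻¹ * v) * c := by group
      _ = c⁻¹ * (v * (c * k * c⁻¹)) * c := by rw [h1]
      _ = c⁻¹ * v * c * k := by group

/-- **(SYM)** -/
theorem sym [Finite G] {p q : G} (hp : PPc M n p) (hq : PPc M n q) (hc : ∀ f ∈ Kk q, f * p = p * f) :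
    ∀ g ∈ Kk p, g * q = q * g := by
  intro g hg
  by_contra hne
  have hpU := h.pp_mem hp
  have hqU := h.pp_mem hq
  have hpp := h.sq p hpU
  have hqq := h.sq q hqU
  have hpq := h.comm p hpU q hqU
  have hgq : g * q * g⁻¹ = p * q := (h.act hp hg hqU).resolve_left fun h1 => hne (mul_inv_eq_iff_eq_mul.1 h1)
  have hgp : g * p = p * g := mem_cz.1 (Kk_le p hg)
  have hgp' : g * p * g⁻¹ = p := by rw [hgp, mul_inv_cancel_right]
  have hsub : Fc U q ⊆ Fc U p := by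
    rintro _ ⟨f, hf, rfl⟩
    have hfp : f * p * f⁻¹ = p := by rw [hc f hf, mul_inv_cancel_right]
    have hfq : f * q * f⁻¹ = q := by rw [mem_cz.1 (Kk_le q hf), mul_inv_cancel_right]
    have hfg : f * g * f⁻¹ ∈ Kk p := conj_Kk hfp hg
    refine ⟨f * g * f⁻¹ * g⁻¹, mul_mem hfg (inv_mem hg), ?_⟩
    ext v
    simp only [Set.mem_ofPred_eq]
    refine and_congr_right fun hv => ?_
    -- the image of `v`
    have hfi : ∀ w, f * w * f⁻¹ = w → f⁻¹ * w * f = w := fun w hw => by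
      calc f⁻¹ * w * f = f⁻¹ * (f * w * f⁻¹) * f := by rw [hw]
        _ = w := by group
    have e0 : f * g * f⁻¹ * g⁻¹ * v * (f * g * f⁻¹ * g⁻¹)⁻¹ = f * (g * (f⁻¹ * (g⁻¹ * v * g) * f) * g⁻¹) * f⁻¹ := by
      group
    have hvU : g⁻¹ * v * g ∈ U := h.inv_mem_U (h.K_mem hp hg) hv
    constructor
    · intro h1
      have h1' : f * v * f⁻¹ = v := by rw [h1, mul_inv_cancel_right]
      have h2 : f⁻¹ * (g⁻¹ * v * g) * f = g⁻¹ * v * g := by
        apply hfi
        rcases h.act' hp hg hv with h3 | h3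
        · rw [h3]; exact h1'
        · rw [h3]
          calc f * (p * v) * f⁻¹ = f * p * f⁻¹ * (f * v * f⁻¹) := by group
            _ = p * v := by rw [hfp, h1']
      rw [h2] at e0
      have e1 : g * (g⁻¹ * v * g) * g⁻¹ = v := by group
      rw [e1, h1'] at e0
      exact mul_inv_eq_iff_eq_mul.1 e0
    · intro h1
      by_contra hfv
      have h2 : f * v * f⁻¹ = q * v := (h.act hq hf hv).resolve_left fun h3 => hfv (mul_inv_eq_iff_eq_mul.1 h3)
      have h2' : f⁻¹ * v * f = q * v := (h.act' hq hf hv).resolve_left fun h3 => hfv (by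
        have h4 : v = f * v * f⁻¹ := by
          calc v = f * (f⁻¹ * v * f) * f⁻¹ := by group
            _ = f * v * f⁻¹ := by rw [h3]
        calc f * v = f * v * f⁻¹ * f := by group
          _ = v * f := by rw [← h4])
      have hfp2 : f⁻¹ * p * f = p := hfi p hfp
      -- `g⁻¹ v g = δ v`, `δ ∈ {1, p}`
      obtain ⟨δ, hδ, hδg, hδf, h3⟩ : ∃ δ, δ * δ = 1 ∧ g * δ * g⁻¹ = δ ∧ f⁻¹ * δ * f = δ ∧ g⁻¹ * v * g = δ * v := by
        rcases h.act' hp hg hv with h3 | h3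
        · exact ⟨1, by group, by group, by group, by rw [h3, one_mul]⟩
        · exact ⟨p, hpp, hgp', hfp2, h3⟩
      have hgv : g * v * g⁻¹ = δ * v := by
        have h4 : v = g * (δ * v) * g⁻¹ := by rw [← h3]; group
        have h5 : g * (δ * v) * g⁻¹ = δ * (g * v * g⁻¹) := by
          calc g * (δ * v) * g⁻¹ = g * δ * g⁻¹ * (g * v * g⁻¹) := by group
            _ = δ * (g * v * g⁻¹) := by rw [hδg]
        rw [h5] at h4
        calc g * v * g⁻¹ = δ * δ * (g * v * g⁻¹) := by rw [hδ, one_mul]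
          _ = δ * v := by rw [mul_assoc, ← h4]
      have s1 : f⁻¹ * (g⁻¹ * v * g) * f = δ * (q * v) := by
        rw [h3]
        calc f⁻¹ * (δ * v) * f = f⁻¹ * δ * f * (f⁻¹ * v * f) := by group
          _ = δ * (q * v) := by rw [hδf, h2']
      have s2 : g * (δ * (q * v)) * g⁻¹ = δ * (p * q) * (δ * v) := by
        calc g * (δ * (q * v)) * g⁻¹ = g * δ * g⁻¹ * (g * q * g⁻¹) * (g * v * g⁻¹) := by group
          _ = δ * (p * q) * (δ * v) := by rw [hδg, hgq, hgv]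
      have hδU : δ ∈ U := by
        have h4 : δ = g⁻¹ * v * g * v⁻¹ := by rw [h3]; group
        rw [h4]
        exact mul_mem hvU (inv_mem hv)
      have s3 : δ * (p * q) * (δ * v) = p * (q * v) := by
        have h4 : δ * (p * q) = p * q * δ := h.comm _ hδU _ (mul_mem hpU hqU)
        calc δ * (p * q) * (δ * v) = p * q * (δ * δ) * v := by rw [h4]; group
          _ = p * (q * v) := by rw [hδ]; group
      have s4 : f * (p * (q * v)) * f⁻¹ = p * v := by
        calc f * (p * (q * v)) * f⁻¹ = f * p * f⁻¹ * (f * q * f⁻¹) * (f * v * f⁻¹) := by group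
          _ = p * (q * q) * v := by rw [hfp, hfq, h2]; group
          _ = p * v := by rw [hqq, mul_one]
      rw [s1, s2, s3, s4] at e0
      have h5 : f * g * f⁻¹ * g⁻¹ * v * (f * g * f⁻¹ * g⁻¹)⁻¹ = v := by rw [h1, mul_inv_cancel_right]
      rw [h5] at e0
      exact h.pp_ne hp (right_eq_mul.1 e0)
  have heq := Set.eq_of_subset_of_ncard_le hsub (h.card_le hp hq) (Set.toFinite _)
  have h1 : {v | v ∈ U ∧ g * v = v * g} ∈ Fc U q := by
    rw [heq]
    exact ⟨g, hg, rfl⟩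
  obtain ⟨f, hf, h2⟩ := h1
  have h3 : q ∈ {v | v ∈ U ∧ f * v = v * f} := ⟨hqU, mem_cz.1 (Kk_le q hf)⟩
  rw [← h2] at h3
  exact hne h3.2

end ClsK

end Cfsg.Agent.Omega.IId.SwCv.NatM
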