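import Cfsg.Agent.Omega.IId.SwCv.NatM.Inst
import Cfsg.Agent.Omega.IId.Cv.Center
import Cfsg.Agent.Omega.IId.SymWrD.FOneAll

/-!
# II.d, SwCv, natural partner with two factors (helper639 #20226; referee helper1 #20611)

* `NV.half_pt` : `fac M i ≤ Z(O₂(C_G(z)))` for `1 ≠ z ∈ fac M j`, `j ≠ i`, `q = 2`;
* `Mxd.two_false` : `k' = 2`, `D' ≠ 1` is impossible in the mixed case.
-/

set_option autoImplicit false
set_option linter.unusedSectionVars false

namespace Cfsg.Agent.Omega.IId.NV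

open Subgroup Cfsg Cfsg.Agent.Lib.SL2Mat Cfsg.Agent.MinSimple
open Cfsg.Agent.ZN (o2 zc zl)
open Cfsg.Agent.Omega.MinPar Cfsg.Agent.Omega.FFThm
open Cfsg.Agent.Omega.IId.Cv.TwoA (mem_cs o2_conj o2_conj')

universe u

variable {G : Type u} [Group G] [Finite G] {F : Type} [Field F] [Finite F] [CharP F 2] {S : Sylow 2 G}
  {P V D : Subgroup G} (M : NatD F S P V D 2)

/-- `fac M i ≤ Z(O₂(C_G(z)))` for `1 ≠ z ∈ fac M j`, `j ≠ i`, `q = 2` -/
theorem half_pt (hF : Nat.card F = 2) {i j : Fin 2} (hij : i ≠ j) {z : G} (hz : z ∈ fac M.toNatV j) (hz1 : z ≠ 1) :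
    fac M.toNatV i ≤ o2 (centralizer ({z} : Set G)) ∧
      o2 (centralizer ({z} : Set G)) ≤ centralizer (fac M.toNatV i : Set G) := by
  -- the element `e` of the line
  obtain ⟨x, e, b, c, h⟩ := exists_abc M hF j
  have hst : stab M.toNatV i = stab M.toNatV j := stab_eq M.toNatV (SP M) hij
  have hd : Disjoint ({i} : Set (Fin 2)) {j} := by simpa using hij
  have hee : e ^ 2 = 1 := by rw [pow_two]; exact sq M.toNatV h.a_fac.1
  obtain ⟨h1, h2⟩ := cent_half M hij hee h.a1 (fun t ht => mul_inv_eq_iff_eq_mul.1 (h.stab_a (hst ▸ ht)))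
    fun g hg => grp_comm M.toNatV hd hg h.a_fac
  obtain ⟨g, hg, hge⟩ := exists_grp M.toNatV h.a_fac hz h.a1 hz1
  have hgc : ∀ v ∈ fac M.toNatV i, g * v = v * g := fun v hv => grp_comm M.toNatV hd.symm hg hv
  subst hge
  constructor
  · intro v hv
    have h3 := o2_conj g (h1 hv)
    rwa [hgc v hv, mul_inv_cancel_right] at h3
  · intro y hy
    have h3 := h2 (o2_conj' g hy)
    rw [mem_centralizer_iff] at h3 ⊢
    intro v hv
    have h4 := h3 v hv
    have h5 := hgc v hv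
    have h6 : g * (v * (g⁻¹ * y * g)) * g⁻¹ = g * (g⁻¹ * y * g * v) * g⁻¹ := by rw [h4]
    calc v * y = g * v * g⁻¹ * y := by rw [h5, mul_inv_cancel_right]
      _ = g * (v * (g⁻¹ * y * g)) * g⁻¹ := by group
      _ = g * (g⁻¹ * y * g * v) * g⁻¹ := h6
      _ = y * (g * v * g⁻¹) := by group
      _ = y * v := by rw [h5, mul_inv_cancel_right]

end Cfsg.Agent.Omega.IId.NV

namespace Cfsg.Agent.Omega.IId.SwCv.NatM

open Subgroup Cfsg Cfsg.Agent.Lib.SL2Mat Cfsg.Agent.MinSimple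
open Cfsg.Agent.ZN (o2 zc zl)
open Cfsg.Agent.Omega.MinPar Cfsg.Agent.Omega.FFThm
open Cfsg.Agent.Omega.BTwo (cj mem_cj conj_mem_cj cj_mono cj_eq_self_iff mem_normalizer_of_conj)
open Cfsg.Agent.Omega.Mix (LL LL_le V_le_LL cj_le_LL Char2 YY mem_YY ST)
open Cfsg.Agent.Omega.MixOne (SideW)

universe u

variable {G : Type u} [Group G] [Finite G] {S S' : Sylow 2 G} {P P' : Subgroup G} {D V' D' : Subgroup G} {k m : ℕ}
  {M : SymK (S : Subgroup G) P (zl (S : Subgroup G) P) D k m} {ε : Fin k → (Fin (2 ^ m + 1) → ZMod 2) → G}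
  {F' : Type} [Field F'] [Finite F'] [CharP F' 2] {N : NatD F' S' P' V' D' 2} {i : Fin k}
  {a b : Fin (2 ^ m + 1)} {i' : Fin 2}

/-- **`k' = 2`, mixed: impossible.** -/
theorem Mxd.two_false (t : Mxd S S' P P' M ε N i a b i') (hD' : D' ≠ ⊥) : False := by
  obtain ⟨c, hca, hcb⟩ := Half.SymA.exists_third t.lb.hm a b
  obtain ⟨T, -, hT1, hT2, hT3⟩ := t.exists_T (Or.inr hD')
  obtain ⟨e, he, he1, g, hW⟩ := t.lnD_W
  have o := t.oneT hca hcb hW hT1 hT2 hT3
  obtain ⟨j', hj'⟩ := exists_ne i'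
  -- `W₂ ≤ C_G(A L)`
  have hQ := (NV.fac_le_o2_line N hj'.symm).2
  rw [t.line_eq] at hQ
  have hY : ∀ z ∈ NV.fac N.toNatV j', z ∈ YY (LL (NV.fac N.toNatV i') (zpowers (du ε i a b)) (zpowers (du ε i a b)))
      (LL (zl (S : Subgroup G) P) (zpowers (du ε i a b)) (zpowers (du ε i a b))) := by
    intro z hz
    rw [mem_YY]
    exact ⟨fun x hx => mem_centralizer_iff.1 (hQ (t.LLW_o2 hx)) z hz,
      fun x hx => mem_centralizer_iff.1 (hQ (t.LLV_o2 hx)) z hz⟩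
  -- (P')
  have hP : ∀ z ∈ NV.fac N.toNatV j', z ≠ 1 →
      z ∉ ⨅ p, YY (LL (NV.fac N.toNatV i') (zpowers (du ε i a b)) (pts (rl ε i a b c) p))
        (LL (zl (S : Subgroup G) P) (zpowers (du ε i a b)) (pts (rl ε i a b c) p)) := by
    intro z hz hz1 hd
    obtain ⟨h1, h2⟩ := NV.half_pt N t.cardF hj'.symm hz hz1
    obtain ⟨x, hx, hxe⟩ := o.s₁.trans 2 0 1 (by decide) (by decide)
    have hxz : x ∈ centralizer ({z} : Set G) := by
      rw [mem_centralizer_singleton_iff]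
      exact (SideW.D_comm hd 2 x hx).symm
    obtain ⟨g', d⟩ := t.lnD_l hca hcb
    have h3 : x * rl ε i a b c 0 * x⁻¹ = rl ε i a b c 1 := d.toFourL.conj_of_cj hxe
    have h4 : rl ε i a b c 1 ∈ o2 (centralizer ({z} : Set G)) := by
      rw [← h3]
      exact (mem_normalizer_iff.1 (VModule.le_normalizer_o2 _ hxz) _).1 (h1 t.n_fac)
    exact t.ne_comm he he1 hca hcb (mem_centralizer_iff.1 (h2 h4) e he)
  -- the end
  have key : ∀ z ∈ NV.fac N.toNatV j', z ≠ 1 → ∃ d ∈ ⨅ p, YY (LL (NV.fac N.toNatV i') (zpowers (du ε i a b))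
      (pts (rl ε i a b c) p)) (LL (zl (S : Subgroup G) P) (zpowers (du ε i a b)) (pts (rl ε i a b c) p)),
      z = du ε i a b * d := by
    intro z hz hz1
    obtain ⟨r, hr, d, hd, h⟩ := o.exists_RD (hY z hz)
    have hr' : r ∈ zpowers (du ε i a b) := hr
    rcases Cv.TwoA.zpow_cases (t.lb.du_mul_self i a b) hr' with h1 | h1
    · exfalso
      rw [h1, one_mul] at h
      exact hP z hz hz1 (h ▸ hd)
    · exact ⟨d, hd, by rw [h, h1]⟩
  obtain ⟨x, u, v, w, h⟩ := NV.exists_abc N t.cardF j'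
  obtain ⟨d₁, hd₁, e₁⟩ := key u h.a_fac h.a1
  obtain ⟨d₂, hd₂, e₂⟩ := key v h.b_mem h.b1
  have hw1 : w ≠ 1 := by
    rw [← h.mul]
    intro h0
    apply h.ab
    rw [← inv_eq_of_mul_eq_one_left (NV.sq N.toNatV h.b_mem.1)]
    exact eq_inv_of_mul_eq_one_left h0
  refine hP w h.c_mem hw1 ?_
  have hc : d₁ * du ε i a b = du ε i a b * d₁ := SideW.D_comm hd₁ 0 _ (V_le_LL _ _ t.n_fac)
  have e3 : w = d₁ * d₂ := by
    rw [← h.mul, e₁, e₂]
    calc du ε i a b * d₁ * (du ε i a b * d₂) = du ε i a b * (d₁ * du ε i a b) * d₂ := by group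
      _ = du ε i a b * du ε i a b * (d₁ * d₂) := by rw [hc]; group
      _ = d₁ * d₂ := by rw [t.lb.du_mul_self, one_mul]
  rw [e3]
  exact mul_mem hd₁ hd₂

end Cfsg.Agent.Omega.IId.SwCv.NatM
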